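import Groth.Agent.Lib.QCN9.RPush
import Groth.Agent.Lib.RelCech8.Main

/-! Injective quasi-coherent modules on schemes with affine diagonal. -/

set_option autoImplicit false
set_option linter.unusedSectionVars false
set_option linter.style.haveILetI false
set_option backward.isDefEq.respectTransparency false
set_option backward.isDefEq.respectTransparency.types false
set_option maxHeartbeats 1600000

universe u

open CategoryTheory CategoryTheory.Limits AlgebraicGeometry

namespace Groth.Agent.QCN9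

open Groth.Agent.QCD

attribute [local instance] HasDerivedCategory.standard

variable {X Y : Scheme.{u}}

theorem isAffineHom_diagonal_terminal
    (hd : ∀ U V : X.Opens, IsAffineOpen U → IsAffineOpen V → IsAffineOpen (U ⊓ V)) :
    IsAffineHom (pullback.diagonal (terminal.from X)) :=
  isAffineHom_diagonal_iff.2 fun _ _ V₁ _ V₂ _ => hd V₁ V₂

theorem qInjAcyclic_of_affine_diagonal [CompactSpace X]
    (hdX : ∀ U V : X.Opens, IsAffineOpen U → IsAffineOpen V → IsAffineOpen (U ⊓ V))
    (hdY : ∀ U V : Y.Opens, IsAffineOpen U → IsAffineOpen V → IsAffineOpen (U ⊓ V))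
    (f : X ⟶ Y) [QuasiCompact f] [QuasiSeparated f] : QInjAcyclic f := by
  intro J hJ
  haveI := isAffineHom_diagonal_terminal hdX
  haveI := isAffineHom_diagonal_terminal hdY
  obtain ⟨s, hs⟩ := isCompact_univ.elim_finite_subcover (fun U : X.affineOpens => ((U.1 : X.Opens) : Set X))
    (fun U => U.1.2) (fun x _ => by
      obtain ⟨U, hU, hxU, -⟩ := exists_isAffineOpen_mem_and_subset (U := (⊤ : X.Opens)) (x := x) trivial
      exact Set.mem_iUnion.2 ⟨⟨U, hU⟩, hxU⟩)
  let N : s → X.Modules := fun U => (Scheme.Modules.pushforward U.1.1.ι).obj (J.obj.restrict U.1.1.ι)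
  have hq : ∀ U, Coh.IsQCoh (N U) := fun U => by
    haveI : IsAffine (U.1.1 : Scheme.{u}) := U.1.2
    haveI := RelCech8.isAffineHom_of_affine (S := X) U.1.1.ι
    exact M1.isQCoh_push U.1.1.ι (M1.isQCoh_restrict J.property _)
  have hac : RFPlus.IsAcyclicObj (Scheme.Modules.pushforward f) (∏ᶜ N) := RelCech8.isAcyclicObj_pi f _ fun U => by
    haveI : IsAffine (U.1.1 : Scheme.{u}) := U.1.2
    haveI := RelCech8.isAffineHom_of_affine (S := X) U.1.1.ι
    haveI := RelCech8.isAffineHom_of_affine (S := Y) (U.1.1.ι ≫ f)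
    exact RelCech8.isAcyclicObj_push U.1.1.ι f (M1.isQCoh_restrict J.property _)
  let u : J.obj ⟶ ∏ᶜ N := Pi.lift fun U => (Scheme.Modules.restrictAdjunction U.1.1.ι).unit.app J.obj
  haveI hu : Mono u := Preadditive.mono_of_cancel_zero _ fun {T} z hz => by
    refine Scheme.Modules.hom_ext _ _ fun O => ?_
    ext t
    refine M1.modules_eq_of_locally_eq J.obj O (fun U : s => U.1.1 ⊓ O) (fun U => inf_le_right) (fun x hx => ?_) _ _
      fun U => ?_
    · obtain ⟨U, hU, hxU⟩ := Set.mem_iUnion₂.1 (hs (Set.mem_univ x))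
      exact TopologicalSpace.Opens.mem_iSup.2 ⟨⟨U, hU⟩, hxU, hx⟩
    · let adj := Scheme.Modules.restrictAdjunction U.1.1.ι
      let R := Scheme.Modules.restrictFunctor U.1.1.ι
      have h1 : z ≫ adj.unit.app J.obj = 0 := by
        have := congrArg (· ≫ Pi.π N U) hz
        simpa [u, adj, R] using this
      have h2 : R.map z = 0 := by
        have h3 := congrArg (fun φ => R.map φ ≫ adj.counit.app (R.obj J.obj)) h1
        simp only [Functor.map_comp, Category.assoc, Functor.map_zero, zero_comp] at h3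
        rw [adj.left_triangle_components] at h3
        simpa [R] using h3
      have e : U.1.1.ι ''ᵁ (U.1.1.ι ⁻¹ᵁ O) = U.1.1 ⊓ O := by
        rw [Scheme.Hom.image_preimage_eq_opensRange_inf, Scheme.Opens.opensRange_ι]
      rw [← M1.app_mres, ← M1.app_mres]
      have h4 : z.app (U.1.1.ι ''ᵁ (U.1.1.ι ⁻¹ᵁ O)) = 0 :=
        congrArg (fun φ : R.obj T ⟶ R.obj J.obj => φ.app (U.1.1.ι ⁻¹ᵁ O)) h2
      rw [e] at h4
      rw [h4]
      simp
  let P : QC X := ⟨∏ᶜ N, RelCech8.isQCoh_pi N hq⟩
  let u' : J ⟶ P := ObjectProperty.homMk u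
  haveI : Mono u' := (qP X).ι.mono_of_mono_map (show Mono ((qP X).ι.map u') from hu)
  haveI := hJ
  let r : P ⟶ J := Injective.factorThru (𝟙 J) u'
  have hr : u ≫ r.hom = 𝟙 J.obj := congrArg (fun φ : J ⟶ J => φ.hom) (Injective.comp_factorThru (𝟙 J) u')
  intro i hi
  rw [IsZero.iff_id_eq_zero]
  let R := (Scheme.Modules.pushforward f).rightDerived i
  rw [← R.map_id, ← hr, R.map_comp, (hac i hi).eq_of_tgt (R.map u) 0, zero_comp]

end Groth.Agent.QCN9
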