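import Groth.Agent.Lib.QCN9.Push

/-! The derived category of quasi-coherent modules of a Noetherian scheme. -/

set_option autoImplicit false
set_option linter.unusedSectionVars false
set_option linter.style.haveILetI false
set_option backward.isDefEq.respectTransparency false
set_option backward.isDefEq.respectTransparency.types false
set_option maxHeartbeats 1600000

universe u

open CategoryTheory CategoryTheory.Limits AlgebraicGeometry Pretriangulated ZeroObject

namespace Groth.Agent.QCN9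

open Groth.Agent.QCD DGen9

attribute [local instance] HasDerivedCategory.standard
attribute [local instance] DBC9.hasRpush

variable {X : Scheme.{u}} [IsNoetherian X]

theorem induction_step (P : DerivedCategory (QC X) → Prop) (T : Set X) (hT : IsClosed T) (U : X.affineOpens)
    (hpush : ∀ (_ : QuasiCompact U.1.ι) (N : DerivedCategory (QC (U.1 : Scheme.{u}))) (D : PushData U.1.ι N), P D.S)
    (hext : ∀ S : Triangle (DerivedCategory (QC X)), S ∈ distTriang _ → P S.obj₂ → P S.obj₃ → P S.obj₁)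
    (ih : ∀ M, SuppOn (T ∩ (U.1 : Set X)ᶜ) ((Φ X).obj M) → P M) (M : DerivedCategory (QC X))
    (hM : SuppOn T ((Φ X).obj M)) : P M := by
  haveI := DGen9.quasiCompact_ι U.2.isCompact
  let j := U.1.ι
  obtain ⟨D⟩ := nonempty_pushData j ((resQ j).mapDerivedCategory.obj M)
  obtain ⟨η, hη⟩ := (D.bij M).2 (𝟙 _)
  obtain ⟨C, u, v, hC⟩ := distinguished_cocone_triangle η
  refine hext _ hC (hpush inferInstance _ D) (ih C ?_)
  refine suppOn_inter ?_ ?_
  · refine suppOn_triangle₃ _ ((Φ X).map_distinguished _ hC) hM ?_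
    refine suppOn_of_iso D.iso.some.symm (suppOn_rpush j hT ?_)
    exact suppOn_of_iso ((ρ j).app M).symm (suppOn_resD j hM)
  · refine suppOn_mono (le_of_eq ?_) (suppOn_of_isZero_resD j ?_)
    · erw [Scheme.Opens.range_ι]
    · have h0 : IsZero ((resQ j).mapDerivedCategory.obj C) := by
        refine (Triangle.isZero₃_iff_isIso₁ _ ((resQ j).mapDerivedCategory.map_distinguished _ hC)).2 ?_
        haveI := D.isIso
        haveI : IsIso (𝟙 ((resQ j).mapDerivedCategory.obj M)) := IsIso.id _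
        exact IsIso.of_isIso_fac_right hη
      exact ((Φ (U.1 : Scheme.{u})).map_isZero h0).of_iso ((ρ j).app C).symm

variable (X) in
theorem bb_all (M : DerivedCategory (QC X)) : BB M := by
  have key : ∀ l : List X.affineOpens, (∀ M : DerivedCategory (QC X), SuppOn (Tc l) ((Φ X).obj M) → BB M) →
      ∀ M : DerivedCategory (QC X), BB M := by
    intro l
    induction l with
    | nil => exact fun h M => h M (suppOn_univ _)
    | cons U l ih =>
      intro h
      refine ih fun M hM => induction_step BB (Tc l) (isClosed_Tc l) U (fun hqc N D n M' => ?_)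
        (fun S hS h₂ h₃ => BB.mid (inv_rot_of_distTriang _ hS) (BB.shift h₃ (-1)) h₂) h M hM
      haveI : IsAffine (U.1 : Scheme.{u}) := U.2
      haveI := bijective_Φ (U.1 : Scheme.{u})
      haveI := hqc
      have hb : ∀ M'', Function.Bijective fun f : M'' ⟶ D.S => (Φ X).map f := fun M'' => bijective_push D M''
      let e : (M'⟦-n⟧)⟦n⟧ ≅ M' := (shiftFunctorCompIsoId (DerivedCategory (QC X)) (-n) n (by omega)).app M'
      let F := shiftFunctor (DerivedCategory (QC X)) n
      let G := shiftFunctor (DCoh.D X) n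
      let c := ((Φ X).commShiftIso n)
      have nat : ∀ f₀ : M'⟦-n⟧ ⟶ D.S, (Φ X).map (e.inv ≫ F.map f₀) =
          ((Φ X).map e.inv ≫ c.hom.app _) ≫ G.map ((Φ X).map f₀) ≫ c.inv.app D.S := fun f₀ => by
        have hn := c.hom.naturality f₀
        dsimp at hn
        rw [Functor.map_comp, Category.assoc, ← reassoc_of% hn]
        simp [F]
      refine ⟨fun f g hfg => ?_, fun g => ?_⟩
      · obtain ⟨f₀, hf₀⟩ := F.map_surjective (e.hom ≫ f)
        obtain ⟨g₀, hg₀⟩ := F.map_surjective (e.hom ≫ g)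
        have ef : f = e.inv ≫ F.map f₀ := by rw [hf₀, Iso.inv_hom_id_assoc]
        have eg : g = e.inv ≫ F.map g₀ := by rw [hg₀, Iso.inv_hom_id_assoc]
        dsimp only at hfg
        rw [ef, eg, nat, nat] at hfg
        have h1 := G.map_injective ((cancel_mono (c.inv.app D.S)).1 ((cancel_epi _).1 hfg))
        rw [ef, eg, (hb _).1 h1]
      · obtain ⟨g₁, hg₁⟩ := G.map_surjective
          (inv ((Φ X).map e.inv ≫ c.hom.app _) ≫ g ≫ c.hom.app D.S)
        obtain ⟨f₀, hf₀⟩ := (hb _).2 g₁
        refine ⟨e.inv ≫ F.map f₀, ?_⟩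
        dsimp only at hf₀ ⊢
        rw [nat, hf₀, hg₁]
        simp
  obtain ⟨l, hl⟩ := exists_cover_list (X := X)
  refine key l (fun M hM n M' => ?_) M
  have h0 : IsZero ((Φ X).obj M) := DMV.isZero_of_hd fun i => DPerf.isZero_of_stalks fun x =>
    AddCommGrpCat.subsingleton_of_isZero (stalkZero_of_suppOn hM (by rw [hl]; exact id) i)
  have h1 : IsZero (M⟦n⟧) := (shiftFunctor _ n).map_isZero (isZero_of_Φ h0)
  exact ⟨fun f g _ => h1.eq_of_tgt f g, fun g => ⟨0, ((Φ X).map_isZero h1).eq_of_tgt _ _⟩⟩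

theorem bijective_Φ_map (M N : DerivedCategory (QC X)) : Function.Bijective fun f : M ⟶ N => (Φ X).map f := by
  have h := (bb_all X N).iso (Iso.refl N) 0 M
  let e := (shiftFunctorZero (DerivedCategory (QC X)) ℤ).app N
  refine ⟨fun f g hfg => ?_, fun g => ?_⟩
  · exact (cancel_mono e.inv).1 (h.1 (show (Φ X).map (f ≫ e.inv) = (Φ X).map (g ≫ e.inv) by
      dsimp only at hfg
      rw [Functor.map_comp, Functor.map_comp, hfg]))
  · obtain ⟨f, hf⟩ := h.2 (g ≫ (Φ X).map e.inv)
    refine ⟨f ≫ e.hom, ?_⟩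
    dsimp only at hf ⊢
    rw [Functor.map_comp, hf, Category.assoc, ← (Φ X).map_comp, e.inv_hom_id]
    erw [CategoryTheory.Functor.map_id, Category.comp_id]

theorem exists_Φ_iso {K : DCoh.D X} (hK : DCoh.IsQCohD K) :
    ∃ N : DerivedCategory (QC X), Nonempty ((Φ X).obj N ≅ K) := by
  have key : ∀ l : List X.affineOpens, (∀ K : DCoh.D X, DCoh.IsQCohD K → SuppOn (Tc l) K →
      ∃ N, Nonempty ((Φ X).obj N ≅ K)) → ∀ K : DCoh.D X, DCoh.IsQCohD K → ∃ N, Nonempty ((Φ X).obj N ≅ K) := by
    intro l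
    induction l with
    | nil => exact fun h K hK => h K hK (suppOn_univ _)
    | cons U l ih =>
      intro h
      refine ih fun K hK hKT => ?_
      haveI := DGen9.quasiCompact_ι U.2.isCompact
      haveI : IsAffine (U.1 : Scheme.{u}) := U.2
      let j := U.1.ι
      let adj := DGen9.adjR j
      obtain ⟨C, u, v, hC⟩ := distinguished_cocone_triangle (adj.unit.app K)
      have hR : DCoh.IsQCohD ((DPerf.resD j).obj K) := DQC.isQCohD_resD j hK
      obtain ⟨NU, ⟨eU⟩⟩ := QCD.exists_Φ_iso (U.1 : Scheme.{u}) hR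
      obtain ⟨D⟩ := nonempty_pushData j NU
      let eS : (Φ X).obj D.S ≅ (DCoh.Rpush j).obj ((DPerf.resD j).obj K) :=
        D.iso.some ≪≫ (DCoh.Rpush j).mapIso eU
      have hCq : DCoh.IsQCohD C := DPush.isQCohD_obj₃ _ hC hK (DQC.isQCohD_of_iso eS (isQCohD_Φ D.S))
      haveI := isIso_resD_unit j K
      have hCs : SuppOn (Tc (U :: l)) C := by
        refine suppOn_inter (suppOn_triangle₃ _ hC hKT (suppOn_rpush j (isClosed_Tc l) (suppOn_resD j hKT))) ?_
        refine suppOn_mono (le_of_eq ?_) (suppOn_of_isZero_resD j (isZero_resD_cone j hC))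
        erw [Scheme.Opens.range_ι]
      obtain ⟨C', ⟨eC⟩⟩ := h C hCq hCs
      obtain ⟨g, hg⟩ := (bijective_Φ_map D.S C').2 (eS.hom ≫ u ≫ eC.inv)
      dsimp only at hg
      obtain ⟨K', a, b, hK'⟩ := distinguished_cocone_triangle₁ g
      have hT₂ := rot_of_distTriang _ ((Φ X).map_distinguished _ hK')
      have hT₁ := rot_of_distTriang _ hC
      let eT := isoTriangleOfIso₁₂ _ _ hT₂ hT₁ eS eC (by
        change (Φ X).map g ≫ eC.hom = eS.hom ≫ u
        rw [hg]; simp)
      exact ⟨K', ⟨(shiftFunctor (DCoh.D X) (1 : ℤ)).preimageIso (Triangle.π₃.mapIso eT)⟩⟩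
  obtain ⟨l, hl⟩ := exists_cover_list (X := X)
  refine key l (fun K' _ hK' => ⟨0, ⟨((Φ X).map_isZero (isZero_zero _)).iso ?_⟩⟩) K hK
  exact DMV.isZero_of_hd fun i => DPerf.isZero_of_stalks fun x =>
    AddCommGrpCat.subsingleton_of_isZero (stalkZero_of_suppOn hK' (by rw [hl]; exact id) i)

end Groth.Agent.QCN9
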