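import Groth.Agent.Lib.QCN9.CohGen
import Groth.Agent.Lib.QCN9.Main
import Groth.Agent.Lib.TwistBC9.Hd

/-! The bounded derived category of coherent modules. -/

set_option autoImplicit false
set_option linter.unusedSectionVars false
set_option linter.style.haveILetI false
set_option backward.isDefEq.respectTransparency false
set_option backward.isDefEq.respectTransparency.types false
set_option maxHeartbeats 1600000

universe u

open CategoryTheory CategoryTheory.Limits AlgebraicGeometry

namespace Groth.Agent.QCN9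

open Groth.Agent.QCD

attribute [local instance] HasDerivedCategory.standard

variable {X : Scheme.{u}} [IsNoetherian X] (C : ObjectProperty X.Modules) (hC : ∀ M, C M ↔ Coh.IsCoh M)
  [C.ContainsZero] [C.IsClosedUnderKernels] [C.IsClosedUnderCokernels] [C.IsClosedUnderFiniteProducts]
  [PreservesFiniteLimits C.ι] [PreservesFiniteColimits C.ι]

/-- Coherent modules inside quasi-coherent ones. -/
noncomputable abbrev cohQ : C.FullSubcategory ⥤ QC X :=
  (qP X).lift C.ι fun M => ((hC _).1 M.property).1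

include hC in
theorem coh_bounded :
    (∀ (M N : DerivedCategory C.FullSubcategory) (a b : ℤ), M.IsGE a → M.IsLE b → N.IsGE a → N.IsLE b →
      Function.Bijective (fun φ : M ⟶ N => C.ι.mapDerivedCategory.map φ)) ∧
    ∀ (K : DCoh.D X) (a b : ℤ), K.IsGE a → K.IsLE b → DCoh.IsCohD K →
      ∃ M : DerivedCategory C.FullSubcategory, M.IsGE a ∧ M.IsLE b ∧ Nonempty (C.ι.mapDerivedCategory.obj M ≅ K) := by
  let i := cohQ C hC
  haveI : PreservesFiniteLimits i :=
    haveI : PreservesFiniteLimits (i ⋙ (qP X).ι) := inferInstanceAs (PreservesFiniteLimits C.ι)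
    preservesFiniteLimits_of_reflects_of_preserves _ (qP X).ι
  haveI : PreservesFiniteColimits i :=
    haveI : PreservesFiniteColimits (i ⋙ (qP X).ι) := inferInstanceAs (PreservesFiniteColimits C.ι)
    preservesFiniteColimits_of_reflects_of_preserves _ (qP X).ι
  haveI : i.Additive := ⟨fun {_ _ f g} => (qP X).ι.map_injective (C.ι.map_add (f := f) (g := g))⟩
  have hgen : MinusRes9.Gen i := gen_coh C hC i rfl
  let c : i.mapDerivedCategory ⋙ Φ X ≅ C.ι.mapDerivedCategory := compIso i (qP X).ι C.ι (Iso.refl _)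
  refine ⟨fun M N a b _ hM _ _ => ?_, fun K a b hKa hKb hK => ?_⟩
  · have h1 : Function.Bijective fun φ : M ⟶ N => (i.mapDerivedCategory ⋙ Φ X).map φ :=
      (bijective_Φ_map _ _).comp (@MinusRes9.bijective_map_of_isLE _ _ _ _ _ _ _ _ _ _ _ _ _ _ hgen M N b hM)
    have h2 : (fun φ : M ⟶ N => C.ι.mapDerivedCategory.map φ) =
        fun φ => c.inv.app M ≫ (i.mapDerivedCategory ⋙ Φ X).map φ ≫ c.hom.app N := funext fun φ => by
      rw [c.hom.naturality φ, Iso.inv_hom_id_app_assoc]
    rw [h2]
    exact (Iso.homCongr (c.app M) (c.app N)).bijective.comp h1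
  · have hKq : DCoh.IsQCohD K := fun k => (hK k).1
    obtain ⟨N, ⟨eN⟩⟩ := exists_Φ_iso hKq
    have hd : ∀ k, (qP X).ι.obj ((DerivedCategory.homologyFunctor (QC X) k).obj N) ≅ DCoh.HD K k := fun k =>
      ((TwistBC9.hdMapIso (qP X).ι k).app N).symm ≪≫ (DerivedCategory.homologyFunctor X.Modules k).mapIso eN
    haveI := hKa
    haveI := hKb
    haveI : N.IsLE b := (DerivedCategory.isLE_iff N b).2 fun k hk => by
      have hz := (DerivedCategory.isZero_of_isLE K b k hk).of_iso (hd k)
      rw [IsZero.iff_id_eq_zero]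
      exact (qP X).ι.map_injective (hz.eq_of_src _ _)
    obtain ⟨M, hM, ⟨eM⟩⟩ := MinusRes9.exists_iso_of_isLE hgen N b fun k => by
      let Hk : C.FullSubcategory := ⟨DCoh.HD K k, (hC _).2 (hK k)⟩
      exact ⟨Hk, ⟨(qP X).isoMk (hd k).symm⟩⟩
    haveI := hM
    let e : C.ι.mapDerivedCategory.obj M ≅ K := (c.app M).symm ≪≫ (Φ X).mapIso eM ≪≫ eN
    refine ⟨M, (DerivedCategory.isGE_iff M a).2 fun k hk => ?_, inferInstance, ⟨e⟩⟩
    have hz : IsZero (C.ι.obj ((DerivedCategory.homologyFunctor C.FullSubcategory k).obj M)) :=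
      (DerivedCategory.isZero_of_isGE K a k hk).of_iso (((TwistBC9.hdMapIso C.ι k).app M).symm ≪≫
        (DerivedCategory.homologyFunctor X.Modules k).mapIso e)
    rw [IsZero.iff_id_eq_zero]
    exact C.ι.map_injective (hz.eq_of_src _ _)

end Groth.Agent.QCN9
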