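import Groth.Agent.Lib.DGen9.QCD
import Groth.Agent.Lib.QCoh8.Main
import Groth.Agent.Lib.InjMod.QCohInj
import Groth.Agent.Lib.KInj.Resolution
import Groth.Agent.Lib.KInj.Derived

/-! Direct images from quasi-compact opens in the derived category of quasi-coherent modules. -/

set_option autoImplicit false
set_option linter.unusedSectionVars false
set_option linter.style.haveILetI false
set_option backward.isDefEq.respectTransparency false
set_option backward.isDefEq.respectTransparency.types false
set_option maxHeartbeats 1600000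

universe u

open CategoryTheory CategoryTheory.Limits AlgebraicGeometry Pretriangulated ZeroObject

namespace Groth.Agent.QCN9

open Groth.Agent.QCD

attribute [local instance] HasDerivedCategory.standard
attribute [local instance] DBC9.hasRpush

variable {X U : Scheme.{u}} (j : U ⟶ X) [IsOpenImmersion j] [QuasiCompact j]

/-- Direct image. -/
noncomputable abbrev pushN : QC U ⥤ QC X :=
  (qP X).lift ((qP U).ι ⋙ Scheme.Modules.pushforward j) fun M => M1.isQCoh_push j M.property

/-- The adjunction. -/
noncomputable def adjN : resQ j ⊣ pushN j :=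
  (Scheme.Modules.restrictAdjunction j).restrictFullyFaithful (qP X).fullyFaithfulι (qP U).fullyFaithfulι
    (Iso.refl _) (Iso.refl _)

instance : (pushN j).Additive := (adjN j).right_adjoint_additive

theorem isIso_counitN : IsIso (adjN j).counit := by
  haveI : (pushN j).Full := ⟨fun {A B} g => by
    obtain ⟨h, hh⟩ := (Scheme.Modules.pushforward j).map_surjective ((qP X).ι.map g)
    exact ⟨⟨h⟩, (qP X).ι.map_injective hh⟩⟩
  haveI : (pushN j).Faithful := ⟨fun {A B} g g' h => by
    apply (qP U).ι.map_injective
    exact (Scheme.Modules.pushforward j).map_injective (congrArg (qP X).ι.map h)⟩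
  exact (adjN j).counit_isIso_of_R_fully_faithful

/-- An object with the universal property of the direct image. -/
structure PushData (N : DerivedCategory (QC U)) where
  /-- The object. -/
  S : DerivedCategory (QC X)
  /-- The counit. -/
  ε : (resQ j).mapDerivedCategory.obj S ⟶ N
  isIso : IsIso ε
  bij : ∀ M, Function.Bijective fun f : M ⟶ S => (resQ j).mapDerivedCategory.map f ≫ ε
  iso : Nonempty ((Φ X).obj S ≅ (DCoh.Rpush j).obj ((Φ U).obj N))

theorem quotient_hom_ext {A : Type (u + 1)} [Category.{u} A] [Abelian A] {K I : CochainComplex A ℤ} [I.IsKInjective]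
    {φ ψ : K ⟶ I} (h : DerivedCategory.Q.map φ = DerivedCategory.Q.map ψ) : Nonempty (Homotopy φ ψ) := by
  refine ⟨HomotopyCategory.homotopyOfEq _ _
    ((CochainComplex.IsKInjective.Qh_map_bijective (C := A)
      ((HomotopyCategory.quotient A (ComplexShape.up ℤ)).obj K) I).injective ?_)⟩
  have h1 := (DerivedCategory.quotientCompQhIso A).hom.naturality φ
  have h2 := (DerivedCategory.quotientCompQhIso A).hom.naturality ψ
  dsimp at h1 h2
  rw [← cancel_mono ((DerivedCategory.quotientCompQhIso A).hom.app I), h1, h2, h]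

/-- A homotopy between adjuncts. -/
noncomputable def adjHomotopy {K : CochainComplex (QC X) ℤ} {I : CochainComplex (QC U) ℤ}
    {φ ψ : K ⟶ ((pushN j).mapHomologicalComplex (ComplexShape.up ℤ)).obj I}
    (H : Homotopy (((KInjLib.adjComplexes (adjN j) (ComplexShape.up ℤ)).homEquiv K I).symm φ)
      (((KInjLib.adjComplexes (adjN j) (ComplexShape.up ℤ)).homEquiv K I).symm ψ)) : Homotopy φ ψ := by
  let adj := KInjLib.adjComplexes (adjN j) (ComplexShape.up ℤ)
  have h : ∀ χ, adj.unit.app K ≫ ((pushN j).mapHomologicalComplex (ComplexShape.up ℤ)).map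
      ((adj.homEquiv K I).symm χ) = χ := fun χ => by
    exact (adj.homEquiv_unit K I _).symm.trans (Equiv.apply_symm_apply _ _)
  exact (Homotopy.ofEq (h φ).symm).trans (((((pushN j).mapHomotopy H).compLeft (adj.unit.app K))).trans
    (Homotopy.ofEq (h ψ)))

variable [IsLocallyNoetherian U]

theorem nonempty_pushData (N : DerivedCategory (QC U)) : Nonempty (PushData j N) := by
  haveI : IsGrothendieckAbelian.{u} (QC U) := QCoh8.isGrothendieckAbelian_qcoh U
  obtain ⟨I, f, hI, hf, -, hinj⟩ := KInjLib.exists_resolution (DerivedCategory.Q.objPreimage N)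
  let e : N ≅ DerivedCategory.Q.obj I :=
    (DerivedCategory.Q.objObjPreimageIso N).symm ≪≫ asIso (DerivedCategory.Q.map f)
  let adj := KInjLib.adjComplexes (adjN j) (ComplexShape.up ℤ)
  let J : CochainComplex (QC X) ℤ := ((pushN j).mapHomologicalComplex (ComplexShape.up ℤ)).obj I
  haveI hJ : CochainComplex.IsKInjective J := KInjLib.isKInjective_of_adj (pushN j) (resQ j) (adjN j) I
  haveI := isIso_counitN j
  haveI : IsIso (adj.counit.app I) := by
    have : ∀ i, IsIso ((adj.counit.app I).f i) := fun i => inferInstanceAs (IsIso ((adjN j).counit.app (I.X i)))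
    exact HomologicalComplex.Hom.isIso_of_components _
  let fac := (resQ j).mapDerivedCategoryFactors
  let ε : (resQ j).mapDerivedCategory.obj (DerivedCategory.Q.obj J) ⟶ N :=
    fac.hom.app J ≫ DerivedCategory.Q.map (adj.counit.app I) ≫ e.inv
  refine ⟨⟨DerivedCategory.Q.obj J, ε, inferInstance, fun M => ?_, ?_⟩⟩
  · obtain ⟨K, ⟨eK⟩⟩ := Functor.EssSurj.mem_essImage (F := (DerivedCategory.Q : CochainComplex (QC X) ℤ ⥤ _)) M
    have key : ∀ φ : K ⟶ J, (resQ j).mapDerivedCategory.map (DerivedCategory.Q.map φ) ≫ ε =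
        fac.hom.app K ≫ DerivedCategory.Q.map ((adj.homEquiv K I).symm φ) ≫ e.inv := fun φ => by
      have hn := fac.hom.naturality φ
      dsimp at hn
      rw [reassoc_of% hn, Adjunction.homEquiv_counit, Functor.map_comp, Category.assoc]
    have hK : Function.Bijective fun g : DerivedCategory.Q.obj K ⟶ DerivedCategory.Q.obj J =>
        (resQ j).mapDerivedCategory.map g ≫ ε := by
      refine ⟨fun g g' h => ?_, fun b => ?_⟩
      · obtain ⟨φ, rfl⟩ := KInjLib.exists_map_eq g
        obtain ⟨φ', rfl⟩ := KInjLib.exists_map_eq g'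
        dsimp only at h
        rw [key, key] at h
        obtain ⟨H⟩ := quotient_hom_ext ((cancel_mono e.inv).1 ((cancel_epi (fac.hom.app K)).1 h))
        exact DerivedCategory.Q_map_eq_of_homotopy _ (adjHomotopy j H)
      · obtain ⟨ψ, hψ⟩ := KInjLib.exists_map_eq (fac.inv.app K ≫ b ≫ e.hom)
        refine ⟨DerivedCategory.Q.map (adj.homEquiv K I ψ), ?_⟩
        dsimp only
        rw [key, Equiv.symm_apply_apply, hψ]
        simp
    refine ⟨fun g g' h => ?_, fun b => ?_⟩
    · refine (cancel_epi eK.hom).1 (hK.1 ?_)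
      dsimp only at h ⊢
      rw [Functor.map_comp, Functor.map_comp, Category.assoc, Category.assoc, h]
    · obtain ⟨g, hg⟩ := hK.2 ((resQ j).mapDerivedCategory.map eK.hom ≫ b)
      refine ⟨eK.inv ≫ g, ?_⟩
      dsimp only at hg ⊢
      rw [Functor.map_comp, Category.assoc, hg, ← Category.assoc, ← Functor.map_comp, eK.inv_hom_id,
        CategoryTheory.Functor.map_id, Category.id_comp]
  · let F := ((qP U).ι.mapHomologicalComplex (ComplexShape.up ℤ)).obj I
    have hinjF : ∀ n, Injective (F.X n) := fun n =>
      haveI := hinj n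
      InjMod.injective_obj_of_injective_qcoh (I.X n)
    haveI := DPush9.isIso_βp j F (fun n => (I.X n).property) fun n =>
      haveI := hinjF n
      RFPlus.isAcyclicObj_injective _ _
    exact ⟨(qP X).ι.mapDerivedCategoryFactors.app _ ≪≫ asIso ((DPush9.βp j).app F) ≪≫
      (DCoh.Rpush j).mapIso (((qP U).ι.mapDerivedCategoryFactors.app I).symm ≪≫ (Φ U).mapIso e.symm)⟩

variable {j}

theorem bijective_push [Fact (∀ A B : DerivedCategory (QC U), Function.Bijective fun f : A ⟶ B => (Φ U).map f)]
    {N : DerivedCategory (QC U)} (P : PushData j N) (M : DerivedCategory (QC X)) :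
    Function.Bijective fun f : M ⟶ P.S => (Φ X).map f := by
  haveI : IsIso P.ε := P.isIso
  let adj := DGen9.adjR j
  let θ : (Φ X).obj P.S ⟶ (DCoh.Rpush j).obj ((Φ U).obj N) :=
    adj.homEquiv _ _ ((ρ j).inv.app P.S ≫ (Φ U).map P.ε)
  haveI hθ : IsIso θ := by
    haveI := DGen9.isIso_counit j
    have hu : IsIso (adj.unit.app ((DCoh.Rpush j).obj ((Φ U).obj N))) := by
      have h := adj.right_triangle_components ((Φ U).obj N)
      haveI : IsIso ((DCoh.Rpush j).map (adj.counit.app ((Φ U).obj N))) := inferInstance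
      haveI : IsIso (𝟙 ((DCoh.Rpush j).obj ((Φ U).obj N))) := IsIso.id _
      exact IsIso.of_isIso_fac_right h
    haveI : IsIso (adj.unit.app ((Φ X).obj P.S)) := (NatTrans.isIso_app_iff_of_iso adj.unit P.iso.some).2 hu
    show IsIso (adj.homEquiv _ _ _)
    rw [Adjunction.homEquiv_unit]
    exact @IsIso.comp_isIso _ _ _ _ _ _ _ this inferInstance
  have key : ∀ f : M ⟶ P.S, (Φ X).map f ≫ θ =
      adj.homEquiv _ _ ((ρ j).inv.app M ≫ (Φ U).map ((resQ j).mapDerivedCategory.map f ≫ P.ε)) := fun f => by
    rw [← adj.homEquiv_naturality_left]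
    congr 1
    rw [← Category.assoc, Functor.map_comp, ← Category.assoc]
    congr 1
    exact (ρ j).inv.naturality f
  have hb : Function.Bijective fun f : M ⟶ P.S => (Φ X).map f ≫ θ := by
    simp only [key]
    have hU : Function.Bijective fun f : (resQ j).mapDerivedCategory.obj M ⟶ N => (Φ U).map f :=
      (‹Fact (∀ A B : DerivedCategory (QC U), Function.Bijective fun f : A ⟶ B => (Φ U).map f)›).out _ _
    exact (adj.homEquiv _ _).bijective.comp (((Iso.homFromEquiv ((ρ j).app M)).bijective.comp hU).comp (P.bij M))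
  exact Function.Bijective.of_comp_iff' ((asIso θ).homToEquiv).bijective _ |>.1 hb

end Groth.Agent.QCN9
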