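import Groth.Agent.Lib.QCN9.MinusFF
import Groth.Agent.Lib.ResProp14.TorsionFree
import Groth.Agent.Lib.ModM1.FibreProd
import Groth.Agent.Lib.DPerf.Noeth
import Groth.Agent.Lib.QCN9.Push

/-! Coherent submodules of quasi-coherent modules see epimorphisms onto coherent modules. -/

set_option autoImplicit false
set_option linter.unusedSectionVars false
set_option linter.style.haveILetI false
set_option backward.isDefEq.respectTransparency false
set_option backward.isDefEq.respectTransparency.types false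
set_option maxHeartbeats 800000

universe u

open CategoryTheory CategoryTheory.Limits AlgebraicGeometry ZeroObject

namespace Groth.Agent.QCN9

attribute [local instance] Abelian.hasFiniteBiproducts

variable {X : Scheme.{u}} [IsNoetherian X]

theorem exists_coh_epi {F M : X.Modules} (hF : Coh.IsQCoh F) (hM : Coh.IsCoh M) (π : F ⟶ M) [Epi π] :
    ∃ (C : X.Modules) (q : C ⟶ F), Coh.IsCoh C ∧ Epi (q ≫ π) := by
  classical
  obtain ⟨s, hs⟩ := isCompact_univ.elim_finite_subcover (fun U : X.affineOpens => ((U.1 : X.Opens) : Set X))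
    (fun U => U.1.2) (fun x _ => by
      obtain ⟨U, hU, hxU, -⟩ := exists_isAffineOpen_mem_and_subset (U := (⊤ : X.Opens)) (x := x) trivial
      exact Set.mem_iUnion.2 ⟨⟨U, hU⟩, hxU⟩)
  suffices key : ∀ t : Finset X.affineOpens, ∃ (C : X.Modules) (q : C ⟶ F), Coh.IsCoh C ∧
      ∀ U ∈ t, ∀ x ∈ U.1, Function.Surjective ((M1.stalkAb x).map (q ≫ π)) by
    obtain ⟨C, q, hC, hq⟩ := key s
    refine ⟨C, q, hC, (M1.epi_iff_stalk _).2 fun x => ?_⟩
    obtain ⟨U, hU, hxU⟩ := Set.mem_iUnion₂.1 (hs (Set.mem_univ x))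
    exact hq U hU x hxU
  intro t
  induction t using Finset.induction_on with
  | empty => exact ⟨0, 0, DPerf.isCoh_of_isZero (isZero_zero _), fun U hU => absurd hU (Finset.notMem_empty U)⟩
  | insert U t hUt ih =>
    obtain ⟨C, q, hC, hq⟩ := ih
    obtain ⟨p, hp, hps⟩ := ResProp14.exists_coh_sub_surjective hF hM π U
    refine ⟨C ⊞ p.P, biprod.desc q p.i, M1.isCoh_biprod hC hp, fun V hV x hx => ?_⟩
    rcases Finset.mem_insert.1 hV with rfl | hV
    · intro y
      obtain ⟨z, hz⟩ := hps x hx y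
      refine ⟨(M1.stalkAb x).map (biprod.inr : p.P ⟶ C ⊞ p.P) z, ?_⟩
      rw [← ConcreteCategory.comp_apply, ← Functor.map_comp, biprod.inr_desc_assoc]
      exact hz
    · intro y
      obtain ⟨z, hz⟩ := hq V hV x hx y
      refine ⟨(M1.stalkAb x).map (biprod.inl : C ⟶ C ⊞ p.P) z, ?_⟩
      rw [← ConcreteCategory.comp_apply, ← Functor.map_comp, biprod.inl_desc_assoc]
      exact hz

/-- The inclusion of coherent modules in quasi-coherent ones generates. -/
theorem gen_coh (C : ObjectProperty X.Modules) (hC : ∀ M, C M ↔ Coh.IsCoh M)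
    (i : C.FullSubcategory ⥤ QCD.QC X) (hi : i ⋙ (QCD.qP X).ι = C.ι) : MinusRes9.Gen i := by
  intro a b p hp
  have hM : Coh.IsCoh (i.obj b).obj := by
    have e : (i.obj b).obj = b.obj := Functor.congr_obj hi b
    rw [e]
    exact (hC _).1 b.property
  haveI : Epi p.hom := inferInstanceAs (Epi ((QCD.qP X).ι.map p))
  obtain ⟨N, q, hN, hq⟩ := exists_coh_epi a.property hM p.hom
  let b' : C.FullSubcategory := ⟨N, (hC N).2 hN⟩
  have e' : (i.obj b').obj = N := Functor.congr_obj hi b'
  refine ⟨b', ObjectProperty.homMk (eqToHom e' ≫ q), (QCD.qP X).ι.epi_of_epi_map (?_ : Epi ((eqToHom e' ≫ q) ≫ p.hom))⟩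
  rw [Category.assoc]
  haveI := hq
  exact epi_comp _ _

end Groth.Agent.QCN9
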