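import Groth.Agent.Lib.QCN9.RPush
import Groth.Agent.Lib.FlatDescD9.PC
import Groth.Agent.Lib.ModM1.Pull

/-! The derived coherator and flat direct image. -/

set_option autoImplicit false
set_option linter.unusedSectionVars false
set_option linter.style.haveILetI false
set_option backward.isDefEq.respectTransparency false
set_option backward.isDefEq.respectTransparency.types false
set_option maxHeartbeats 1600000

universe u

open CategoryTheory CategoryTheory.Limits AlgebraicGeometry

namespace Groth.Agent.QCN9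

open Groth.Agent.QCD

attribute [local instance] HasDerivedCategory.standard

variable {X Y : Scheme.{u}} (f : X ⟶ Y)

/-- Pullback of quasi-coherent modules. -/
noncomputable abbrev pullQ : QC Y ⥤ QC X :=
  (qP X).lift ((qP Y).ι ⋙ Scheme.Modules.pullback f) fun M => M1.isQCoh_pullback f M.property

variable [QuasiCompact f] [QuasiSeparated f] [Flat f] [DCoh.HasRpush f]

theorem nonempty_coherator_comp (QX : X.Modules ⥤ QC X) (adjX : (qP X).ι ⊣ QX)
    (QY : Y.Modules ⥤ QC Y) (adjY : (qP Y).ι ⊣ QY) [QX.Additive] [QY.Additive]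
    [(QX.mapHomotopyCategory (ComplexShape.up ℤ) ⋙ DerivedCategory.Qh).HasRightDerivedFunctor
      (HomotopyCategory.quasiIso X.Modules (ComplexShape.up ℤ))]
    [(QY.mapHomotopyCategory (ComplexShape.up ℤ) ⋙ DerivedCategory.Qh).HasRightDerivedFunctor
      (HomotopyCategory.quasiIso Y.Modules (ComplexShape.up ℤ))]
    (P : QC X ⥤ QC Y) [P.Additive] (eP : P ⋙ (qP Y).ι ≅ (qP X).ι ⋙ Scheme.Modules.pushforward f)
    [(P.mapHomotopyCategory (ComplexShape.up ℤ) ⋙ DerivedCategory.Qh).HasRightDerivedFunctor
      (HomotopyCategory.quasiIso (QC X) (ComplexShape.up ℤ))] :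
    Nonempty (DCoh.Rpush f ⋙ (QY.mapHomotopyCategory (ComplexShape.up ℤ) ⋙ DerivedCategory.Qh).totalRightDerived
        DerivedCategory.Qh (HomotopyCategory.quasiIso Y.Modules (ComplexShape.up ℤ)) ≅
      (QX.mapHomotopyCategory (ComplexShape.up ℤ) ⋙ DerivedCategory.Qh).totalRightDerived DerivedCategory.Qh
          (HomotopyCategory.quasiIso X.Modules (ComplexShape.up ℤ)) ⋙
        (P.mapHomotopyCategory (ComplexShape.up ℤ) ⋙ DerivedCategory.Qh).totalRightDerived DerivedCategory.Qh
          (HomotopyCategory.quasiIso (QC X) (ComplexShape.up ℤ))) := by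
  -- adjunctions
  let push := Scheme.Modules.pushforward f
  let pp := Scheme.Modules.pullbackPushforwardAdjunction f
  haveI := FlatDescD9.preservesFiniteLimits_pullback f
  let adjP : pullQ f ⊣ P := pp.restrictFullyFaithful (qP Y).fullyFaithfulι (qP X).fullyFaithfulι (Iso.refl _) eP.symm
  let e₀ : QX ⋙ P ≅ push ⋙ QY :=
    Adjunction.rightAdjointUniq (adjP.comp adjX) ((adjY.comp pp).ofNatIsoLeft (Iso.refl _))
  haveI : push.Additive := pp.right_adjoint_additive
  -- enough K-injectives
  haveI : IsGrothendieckAbelian.{u} (QC X) := QCoh8.isGrothendieckAbelian_qcoh X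
  haveI : IsGrothendieckAbelian.{u} (QC Y) := QCoh8.isGrothendieckAbelian_qcoh Y
  have hMX : KInjLib.EnoughKInj X.Modules := KInjLib.enoughKInj_of_grothendieck
  have hMY : KInjLib.EnoughKInj Y.Modules := KInjLib.enoughKInj_of_grothendieck
  have hQX : KInjLib.EnoughKInj (QC X) := KInjLib.enoughKInj_of_grothendieck
  haveI := KInjLib.isRightDerivabilityStructure hMX
  let Wq := HomotopyCategory.quasiIso X.Modules (ComplexShape.up ℤ)
  let GY := QY.mapHomotopyCategory (ComplexShape.up ℤ) ⋙ DerivedCategory.Qh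
  let GX := QX.mapHomotopyCategory (ComplexShape.up ℤ) ⋙ DerivedCategory.Qh
  let GP := P.mapHomotopyCategory (ComplexShape.up ℤ) ⋙ DerivedCategory.Qh
  let RY := GY.totalRightDerived DerivedCategory.Qh (HomotopyCategory.quasiIso Y.Modules (ComplexShape.up ℤ))
  let ηY := GY.totalRightDerivedUnit DerivedCategory.Qh (HomotopyCategory.quasiIso Y.Modules (ComplexShape.up ℤ))
  let RX := GX.totalRightDerived DerivedCategory.Qh Wq
  let ηX := GX.totalRightDerivedUnit DerivedCategory.Qh Wq
  let RP := GP.totalRightDerived DerivedCategory.Qh (HomotopyCategory.quasiIso (QC X) (ComplexShape.up ℤ))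
  let ηP := GP.totalRightDerivedUnit DerivedCategory.Qh (HomotopyCategory.quasiIso (QC X) (ComplexShape.up ℤ))
  let pushH := push.mapHomotopyCategory (ComplexShape.up ℤ)
  let QXH := QX.mapHomotopyCategory (ComplexShape.up ℤ)
  let F' := pushH ⋙ GY
  let α₁ : F' ⟶ DerivedCategory.Qh ⋙ DCoh.Rpush f ⋙ RY :=
    Functor.whiskerLeft pushH ηY ≫ (Functor.associator _ _ _).inv ≫ Functor.whiskerRight (DPush.unit f) RY ≫
      (Functor.associator _ _ _).hom
  let sq := hcSquare push QY QX P e₀.symm
  let α₂ : F' ⟶ DerivedCategory.Qh ⋙ RX ⋙ RP :=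
    (Functor.associator _ _ _).inv ≫ Functor.whiskerRight sq.hom DerivedCategory.Qh ≫ (Functor.associator _ _ _).hom ≫
      Functor.whiskerLeft QXH ηP ≫ (Functor.associator _ _ _).inv ≫ Functor.whiskerRight ηX RP ≫
      (Functor.associator _ _ _).hom
  let q := HomotopyCategory.quotient X.Modules (ComplexShape.up ℤ)
  -- K-injective representatives
  have rep : ∀ I : (KInjLib.kInjObj X.Modules).FullSubcategory,
      ∃ K : CochainComplex X.Modules ℤ, K.IsKInjective ∧ q.obj K = I.obj := fun I => by
    obtain ⟨K, hK⟩ := HomotopyCategory.quotient_obj_surjective I.obj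
    exact ⟨K, (CochainComplex.isKInjective_iff_rightOrthogonal K).2 (by rw [hK]; exact I.property), hK⟩
  haveI h₁ : (DCoh.Rpush f ⋙ RY).IsRightDerivedFunctor α₁ Wq := by
    refine (KInjLib.derives F').isRightDerivedFunctor_of_isIso α₁ fun I => ?_
    obtain ⟨K, hK, he⟩ := rep I
    change IsIso (α₁.app I.obj)
    rw [← he]
    haveI := hK
    let J : CochainComplex Y.Modules ℤ := (push.mapHomologicalComplex (ComplexShape.up ℤ)).obj K
    haveI : CochainComplex.IsKInjective J := KInjLib.isKInjective_of_adj push (Scheme.Modules.pullback f) pp K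
    haveI : IsIso (ηY.app (pushH.obj (q.obj K))) :=
      (NatTrans.isIso_app_iff_of_iso ηY ((push.mapHomotopyCategoryFactors (ComplexShape.up ℤ)).app K)).2
        (KInjLib.isIso_app_of_isKInjective hMY ηY J)
    haveI : IsIso ((DPush.unit f).app (q.obj K)) := KInjLib.isIso_app_of_isKInjective hMX (DPush.unit f) K
    simp only [α₁, NatTrans.comp_app, Functor.whiskerLeft_app, Functor.whiskerRight_app]
    infer_instance
  haveI h₂ : (RX ⋙ RP).IsRightDerivedFunctor α₂ Wq := by
    refine (KInjLib.derives F').isRightDerivedFunctor_of_isIso α₂ fun I => ?_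
    obtain ⟨K, hK, he⟩ := rep I
    change IsIso (α₂.app I.obj)
    rw [← he]
    haveI := hK
    let J : CochainComplex (QC X) ℤ := (QX.mapHomologicalComplex (ComplexShape.up ℤ)).obj K
    haveI : CochainComplex.IsKInjective J := KInjLib.isKInjective_of_adj QX (qP X).ι adjX K
    haveI : IsIso (ηP.app (QXH.obj (q.obj K))) :=
      (NatTrans.isIso_app_iff_of_iso ηP ((QX.mapHomotopyCategoryFactors (ComplexShape.up ℤ)).app K)).2
        (KInjLib.isIso_app_of_isKInjective hQX ηP J)
    haveI : IsIso (ηX.app (q.obj K)) := KInjLib.isIso_app_of_isKInjective hMX ηX K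
    simp only [α₂, NatTrans.comp_app, Functor.whiskerLeft_app, Functor.whiskerRight_app]
    infer_instance
  exact ⟨Functor.rightDerivedUnique (DCoh.Rpush f ⋙ RY) (RX ⋙ RP) α₁ α₂ Wq⟩

end Groth.Agent.QCN9
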