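import Groth.Agent.Lib.QCN9.MinusRes
import Mathlib.Algebra.Homology.DerivedCategory.TStructure
import Mathlib.Algebra.Homology.QuasiIso

/-! The bounded above derived category of a generating abelian subcategory. -/

set_option autoImplicit false
set_option linter.unusedSectionVars false
set_option linter.style.haveILetI false
set_option backward.isDefEq.respectTransparency false
set_option backward.isDefEq.respectTransparency.types false
set_option maxHeartbeats 800000

universe w₁ w₂ v₁ v₂ u₁ u₂

open CategoryTheory CategoryTheory.Limits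

namespace Groth.Agent.MinusRes9

variable {A : Type u₁} [Category.{v₁} A] [Abelian A] [HasDerivedCategory.{w₁} A]
  {B : Type u₂} [Category.{v₂} B] [Abelian B] [HasDerivedCategory.{w₂} B]
  {i : B ⥤ A} [i.Additive] [i.Full] [i.Faithful] [PreservesFiniteLimits i] [PreservesFiniteColimits i]

local notation "Cx" => ComplexShape.up ℤ
local notation "ιc" => i.mapHomologicalComplex Cx

/-- Homotopies are reflected. -/
noncomputable def homotopyOfMap {K J : CochainComplex B ℤ} {φ ψ : K ⟶ J}
    (H : Homotopy ((ιc).map φ) ((ιc).map ψ)) : Homotopy φ ψ where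
  hom a c := i.preimage (H.hom a c)
  zero a c h := i.map_injective (by rw [i.map_preimage, H.zero a c h, i.map_zero])
  comm a := i.map_injective (by
    refine (H.comm a).trans ?_
    simp [dNext, prevD])

theorem exists_preimage {K J : CochainComplex B ℤ} (ψ : (ιc).obj K ⟶ (ιc).obj J) :
    ∃ φ : K ⟶ J, (ιc).map φ = ψ :=
  ⟨{ f := fun a => i.preimage (ψ.f a)
     comm' := fun a c _ => i.map_injective (by
      rw [i.map_comp, i.map_comp, i.map_preimage, i.map_preimage]
      exact ψ.comm a c) },
    HomologicalComplex.hom_ext _ _ fun a => i.map_preimage _⟩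

/-- The homology of a bounded above complex quasi-isomorphic to one in the subcategory. -/
theorem exists_homology {W : CochainComplex A ℤ} {M : CochainComplex B ℤ} (s : W ⟶ (ιc).obj M)
    [_root_.QuasiIso s] (k : ℤ) : ∃ b : B, Nonempty (i.obj b ≅ W.homology k) :=
  ⟨M.homology k, ⟨((M.sc k).mapHomologyIso i).symm ≪≫ (isoOfQuasiIsoAt s k).symm⟩⟩

theorem quasiIso_of_map {K J : CochainComplex B ℤ} (φ : K ⟶ J) (h : _root_.QuasiIso ((ιc).map φ)) :
    _root_.QuasiIso φ :=
  (HomologicalComplex.quasiIso_map_iff_of_preservesHomology φ i).1 h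

variable (hgen : Gen i)

include hgen

theorem bijective_map_Q (M N : CochainComplex B ℤ) (b : ℤ) [M.IsStrictlyLE b] :
    Function.Bijective fun f : DerivedCategory.Q.obj M ⟶ DerivedCategory.Q.obj N => i.mapDerivedCategory.map f := by
  let fac := i.mapDerivedCategoryFactors
  have key : ∀ {K J : CochainComplex B ℤ} (φ : K ⟶ J), i.mapDerivedCategory.map (DerivedCategory.Q.map φ) =
      fac.hom.app K ≫ DerivedCategory.Q.map ((ιc).map φ) ≫ fac.inv.app J := fun {K J} φ => by
    have hn := fac.hom.naturality φ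
    dsimp at hn
    rw [← reassoc_of% hn, Iso.hom_inv_id_app]
    simp
  have hle : ∀ (K : CochainComplex B ℤ) [K.IsStrictlyLE b], CochainComplex.IsStrictlyLE ((ιc).obj K) b :=
    fun K _ => (CochainComplex.isStrictlyLE_iff _ b).2 fun a ha => i.map_isZero (K.isZero_of_isStrictlyLE b a ha)
  refine ⟨fun f f' hff => ?_, fun f => ?_⟩
  · obtain ⟨d, rfl⟩ : ∃ d, f' + d = f := ⟨f - f', add_sub_cancel _ _⟩
    replace hff : i.mapDerivedCategory.map d = 0 := by simpa using hff
    suffices d = 0 by simp [this]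
    obtain ⟨X', hX', σ, hσ, γ, rfl⟩ := DerivedCategory.right_fac_of_isStrictlyLE d b
    haveI := hX'
    haveI := hσ
    suffices hγ : DerivedCategory.Q.map γ = 0 by rw [hγ, comp_zero]
    have h1 : DerivedCategory.Q.map ((ιc).map γ) = 0 := by
      rw [Functor.map_comp, key γ] at hff
      have h2 := (cancel_epi (i.mapDerivedCategory.map (inv (DerivedCategory.Q.map σ)))).1
        (hff.trans comp_zero.symm)
      rw [← cancel_epi (fac.hom.app X'), ← cancel_mono (fac.inv.app N), Category.assoc, h2]
      simp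
    let q := HomotopyCategory.quotient A Cx
    have h2 : DerivedCategory.Qh.map (q.map ((ιc).map γ)) = DerivedCategory.Qh.map (q.map 0) := by
      rw [Functor.map_zero, Functor.map_zero]
      have h3 := (DerivedCategory.quotientCompQhIso A).hom.naturality ((ιc).map γ)
      dsimp at h3
      rw [h1, comp_zero] at h3
      rw [← cancel_mono ((DerivedCategory.quotientCompQhIso A).hom.app ((ιc).obj N)), zero_comp]
      exact h3
    obtain ⟨W₀, s₀, hs₀, e₀⟩ :=
      (MorphismProperty.map_eq_iff_precomp DerivedCategory.Qh (HomotopyCategory.quasiIso A Cx) _ _).1 h2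
    obtain ⟨(W : CochainComplex A ℤ), rfl⟩ := HomotopyCategory.quotient_obj_surjective W₀
    obtain ⟨s, rfl⟩ := q.map_surjective s₀
    haveI hs : _root_.QuasiIso s := (HomotopyCategory.quotient_map_mem_quasiIso_iff s).1 hs₀
    haveI := hle X'
    haveI : W.IsLE b := by
      rw [← DerivedCategory.isLE_Q_obj_iff]
      exact DerivedCategory.TStructure.t.isLE_of_iso (asIso (DerivedCategory.Q.map s)).symm b
    haveI : _root_.QuasiIso (W.ιTruncLE b) := (W.quasiIso_ιTruncLE_iff b).2 inferInstance
    obtain ⟨L, hL, φ, hφ⟩ := exists_resolution (W.truncLE b) b hgen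
      (fun k => exists_homology (M := X') (W.ιTruncLE b ≫ s) k)
    haveI := hφ
    obtain ⟨τ, hτ⟩ := exists_preimage (φ ≫ W.ιTruncLE b ≫ s)
    haveI : _root_.QuasiIso ((ιc).map τ) := by rw [hτ]; infer_instance
    haveI := quasiIso_of_map τ ‹_›
    have h4 : q.map ((ιc).map (τ ≫ γ)) = q.map ((ιc).map 0) := by
      rw [Functor.map_comp, hτ, Functor.map_zero]
      simp only [Functor.map_comp, Category.assoc]
      rw [e₀]
      simp
    have h5 : DerivedCategory.Q.map (τ ≫ γ) = DerivedCategory.Q.map (0 : L ⟶ N) :=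
      DerivedCategory.Q_map_eq_of_homotopy _ (homotopyOfMap (HomotopyCategory.homotopyOfEq _ _ h4))
    rw [Functor.map_comp, Functor.map_zero] at h5
    exact (cancel_epi (DerivedCategory.Q.map τ)).1 (h5.trans comp_zero.symm)
  · haveI := hle M
    obtain ⟨X', hX', s, hs, g, hg⟩ := DerivedCategory.right_fac_of_isStrictlyLE
      (X := (ιc).obj M) (Y := (ιc).obj N) (fac.inv.app M ≫ f ≫ fac.hom.app N) b
    haveI := hX'
    haveI := hs
    haveI : _root_.QuasiIso s := by rwa [DerivedCategory.isIso_Q_map_iff_quasiIso] at hs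
    obtain ⟨L, hL, φ, hφ⟩ := exists_resolution X' b hgen (fun k => exists_homology (M := M) s k)
    haveI := hφ
    obtain ⟨σ, hσ⟩ := exists_preimage (φ ≫ s)
    obtain ⟨γ, hγ⟩ := exists_preimage (φ ≫ g)
    haveI : _root_.QuasiIso ((ιc).map σ) := by rw [hσ]; infer_instance
    haveI := quasiIso_of_map σ ‹_›
    refine ⟨inv (DerivedCategory.Q.map σ) ≫ DerivedCategory.Q.map γ, ?_⟩
    dsimp only
    rw [Functor.map_comp, Functor.map_inv, IsIso.inv_comp_eq, key, key, hσ, hγ]
    simp only [Functor.map_comp, Category.assoc]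
    have h6 : fac.inv.app M ≫ f = inv (DerivedCategory.Q.map s) ≫ DerivedCategory.Q.map g ≫ fac.inv.app N := by
      rw [← cancel_mono (fac.hom.app N), Category.assoc, hg]
      simp
    rw [h6]
    simp

/-- Full faithfulness on bounded above objects. -/
theorem bijective_map_of_isLE (M N : DerivedCategory B) (b : ℤ) [M.IsLE b] :
    Function.Bijective fun f : M ⟶ N => i.mapDerivedCategory.map f := by
  obtain ⟨K, hK, ⟨eK⟩⟩ := DerivedCategory.exists_iso_Q_obj_of_isLE M b
  haveI := hK
  let eN := DerivedCategory.Q.objObjPreimageIso N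
  have h := bijective_map_Q hgen K (DerivedCategory.Q.objPreimage N) b
  refine ⟨fun f g hfg => ?_, fun g => ?_⟩
  · refine (cancel_epi eK.inv).1 ((cancel_mono eN.inv).1 (h.1 ?_))
    dsimp only at hfg ⊢
    simp only [Functor.map_comp, hfg]
  · obtain ⟨f, hf⟩ := h.2 (i.mapDerivedCategory.map eK.inv ≫ g ≫ i.mapDerivedCategory.map eN.inv)
    refine ⟨eK.hom ≫ f ≫ eN.hom, ?_⟩
    dsimp only at hf ⊢
    rw [Functor.map_comp, Functor.map_comp, hf, Category.assoc, Category.assoc, ← i.mapDerivedCategory.map_comp,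
      ← i.mapDerivedCategory.map_comp_assoc]
    simp

/-- Essential surjectivity on bounded above objects. -/
theorem exists_iso_of_isLE (K : DerivedCategory A) (b : ℤ) [K.IsLE b]
    (hH : ∀ k, ∃ x : B, Nonempty (i.obj x ≅ (DerivedCategory.homologyFunctor A k).obj K)) :
    ∃ M : DerivedCategory B, M.IsLE b ∧ Nonempty (i.mapDerivedCategory.obj M ≅ K) := by
  obtain ⟨K₀, hK₀, ⟨e⟩⟩ := DerivedCategory.exists_iso_Q_obj_of_isLE K b
  haveI := hK₀
  obtain ⟨L, hL, φ, hφ⟩ := exists_resolution K₀ b hgen fun k => by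
    obtain ⟨x, ⟨ex⟩⟩ := hH k
    exact ⟨x, ⟨ex ≪≫ (DerivedCategory.homologyFunctor A k).mapIso e ≪≫
      (DerivedCategory.homologyFunctorFactors A k).app K₀⟩⟩
  haveI := hφ
  haveI := hL
  exact ⟨DerivedCategory.Q.obj L, (DerivedCategory.isLE_Q_obj_iff L b).2 inferInstance,
    ⟨i.mapDerivedCategoryFactors.app L ≪≫ asIso (DerivedCategory.Q.map φ) ≪≫ e.symm⟩⟩

end Groth.Agent.MinusRes9
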