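import Mathlib.Algebra.Homology.Refinements
import Mathlib.Algebra.Homology.DerivedCategory.ExactFunctor
import Mathlib.Algebra.Homology.DerivedCategory.Fractions

/-! Bounded above resolutions by an abelian subcategory which generates. -/

set_option autoImplicit false
set_option linter.unusedSectionVars false
set_option linter.style.haveILetI false
set_option backward.isDefEq.respectTransparency false
set_option backward.isDefEq.respectTransparency.types false
set_option maxHeartbeats 800000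

universe v₁ v₂ u₁ u₂

open CategoryTheory CategoryTheory.Limits ZeroObject

namespace Groth.Agent.MinusRes9

variable {A : Type u₁} [Category.{v₁} A] [Abelian A] {B : Type u₂} [Category.{v₂} B] [Abelian B]
  (i : B ⥤ A) [i.Additive] [i.Full] [i.Faithful] [PreservesFiniteLimits i] [PreservesFiniteColimits i]

/-- Epimorphisms onto objects of the subcategory are seen by the subcategory. -/
def Gen : Prop := ∀ (a : A) (b : B) (p : a ⟶ i.obj b), Epi p → ∃ (b' : B) (q : i.obj b' ⟶ a), Epi (q ≫ p)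

variable {i} (K : CochainComplex A ℤ) (n : ℤ)

/-- The data in degrees above `m` which the next step needs. -/
structure State (m : ℤ) where
  /-- The cycles. -/
  Z : B
  /-- Their map. -/
  ζ : i.obj Z ⟶ K.X m
  hζ : ζ ≫ K.d m (m + 1) = 0
  hZ : n < m → IsZero Z
  epi : ∀ ⦃T : A⦄ (y : T ⟶ K.X m), y ≫ K.d m (m + 1) = 0 →
    ∃ (T' : A) (π : T' ⟶ T) (_ : Epi π) (z : T' ⟶ i.obj Z) (y' : T' ⟶ K.X (m - 1)),
      π ≫ y = z ≫ ζ + y' ≫ K.d (m - 1) m

/-- One degree of the resolution. -/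
structure Step (m : ℤ) (s : State (i := i) K n (m + 1)) where
  /-- The term. -/
  b : B
  /-- The differential. -/
  d : b ⟶ s.Z
  /-- The map. -/
  φ : i.obj b ⟶ K.X m
  comm : φ ≫ K.d m (m + 1) = i.map d ≫ s.ζ
  zero : n < m → IsZero b
  exact : ∀ ⦃T : A⦄ (z : T ⟶ i.obj s.Z) (y : T ⟶ K.X m), z ≫ s.ζ = y ≫ K.d m (m + 1) →
    ∃ (T' : A) (π : T' ⟶ T) (_ : Epi π) (w : T' ⟶ i.obj b), π ≫ z = w ≫ i.map d
  epi : ∀ ⦃T : A⦄ (y : T ⟶ K.X m), y ≫ K.d m (m + 1) = 0 →
    ∃ (T' : A) (π : T' ⟶ T) (_ : Epi π) (w : T' ⟶ i.obj b) (_ : w ≫ i.map d = 0) (y' : T' ⟶ K.X (m - 1)),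
      π ≫ y = w ≫ φ + y' ≫ K.d (m - 1) m

theorem nonempty_step (hgen : Gen i) (hH : ∀ k, ∃ b : B, Nonempty (i.obj b ≅ K.homology k))
    [K.IsStrictlyLE n] (m : ℤ) (s : State (i := i) K n (m + 1)) : Nonempty (Step K n m s) := by
  by_cases hm : n < m
  · have hZ : IsZero (i.obj s.Z) := i.map_isZero (s.hZ (by omega))
    have hK : IsZero (K.X m) := K.isZero_of_isStrictlyLE n m hm
    refine ⟨⟨s.Z, 0, 0, by simp, fun _ => s.hZ (by omega), fun T z y _ => ?_, fun T y _ => ?_⟩⟩
    · exact ⟨T, 𝟙 T, inferInstance, 0, hZ.eq_of_tgt _ _⟩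
    · exact ⟨T, 𝟙 T, inferInstance, 0, zero_comp, 0, hK.eq_of_tgt _ _⟩
  obtain ⟨Hn, ⟨en⟩⟩ := hH (m + 1)
  obtain ⟨Hm, ⟨em⟩⟩ := hH m
  let cl : i.obj s.Z ⟶ K.homology (m + 1) :=
    K.liftCycles s.ζ (m + 1 + 1) (by simp) s.hζ ≫ K.homologyπ (m + 1)
  let g : s.Z ⟶ Hn := i.preimage (cl ≫ en.inv)
  let ι : i.obj (kernel g) ⟶ i.obj s.Z := i.map (kernel.ι g)
  let P := pullback s.ζ (K.d m (m + 1))
  have hP : pullback.fst s.ζ (K.d m (m + 1)) ≫ cl = 0 := by
    have h0 : (pullback.fst s.ζ (K.d m (m + 1)) ≫ s.ζ) ≫ K.d (m + 1) (m + 1 + 1) = 0 := by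
      rw [Category.assoc, s.hζ, comp_zero]
    simp only [cl]
    rw [← Category.assoc, HomologicalComplex.comp_liftCycles,
      K.liftCycles_comp_homologyπ_eq_zero_iff_up_to_refinements m (m + 1) (m + 1 + 1) (by simp) (by simp) _ h0]
    exact ⟨_, 𝟙 _, inferInstance, pullback.snd _ _, by rw [Category.id_comp, pullback.condition]⟩
  have hPg : pullback.fst s.ζ (K.d m (m + 1)) ≫ i.map g = 0 := by
    simp only [g, i.map_preimage]
    rw [reassoc_of% hP, zero_comp]
  let ek := PreservesKernel.iso i g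
  have hek : ek.hom ≫ kernel.ι (i.map g) = ι := by
    simp [ek, ι, PreservesKernel.iso_hom]
  let q : P ⟶ i.obj (kernel g) := kernel.lift (i.map g) _ hPg ≫ ek.inv
  have hq : q ≫ ι = pullback.fst s.ζ (K.d m (m + 1)) := by
    rw [← hek]; simp [q]
  haveI : Mono ι := inferInstance
  haveI : Epi q := by
    rw [epi_iff_surjective_up_to_refinements]
    intro T t
    have hz : (t ≫ ι) ≫ cl = 0 := by
      have h1 : ι ≫ cl = 0 := by
        have h2 : ι ≫ i.map g = 0 := by
          change i.map (kernel.ι g) ≫ i.map g = 0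
          rw [← i.map_comp, kernel.condition, i.map_zero]
        simp only [g, i.map_preimage] at h2
        rw [← cancel_mono en.inv, Category.assoc, h2, zero_comp]
      rw [Category.assoc, h1, comp_zero]
    have h0 : ((t ≫ ι) ≫ s.ζ) ≫ K.d (m + 1) (m + 1 + 1) = 0 := by
      rw [Category.assoc, s.hζ, comp_zero]
    simp only [cl] at hz
    rw [← Category.assoc, HomologicalComplex.comp_liftCycles,
      K.liftCycles_comp_homologyπ_eq_zero_iff_up_to_refinements m (m + 1) (m + 1 + 1) (by simp) (by simp) _ h0] at hz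
    obtain ⟨T', π, hπ, x₁, hx₁⟩ := hz
    refine ⟨T', π, hπ, pullback.lift (π ≫ t ≫ ι) x₁ (by simpa using hx₁), ?_⟩
    rw [← cancel_mono ι, Category.assoc, Category.assoc, hq, pullback.lift_fst]
  obtain ⟨b₁, u, hu⟩ := hgen P (kernel g) q inferInstance
  haveI : Epi (K.homologyπ m ≫ em.inv) := epi_comp _ _
  obtain ⟨b₂, v, hv⟩ := hgen (K.cycles m) Hm (K.homologyπ m ≫ em.inv) inferInstance
  let fst' : i.obj (b₁ ⊞ b₂) ⟶ i.obj b₁ := i.map biprod.fst
  let snd' : i.obj (b₁ ⊞ b₂) ⟶ i.obj b₂ := i.map biprod.snd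
  let d : b₁ ⊞ b₂ ⟶ s.Z := biprod.fst ≫ i.preimage (u ≫ q) ≫ kernel.ι g
  let φ : i.obj (b₁ ⊞ b₂) ⟶ K.X m := fst' ≫ u ≫ pullback.snd _ _ + snd' ≫ v ≫ K.iCycles m
  have hd : i.map d = fst' ≫ u ≫ pullback.fst _ _ := by
    simp only [d, i.map_comp, i.map_preimage, Category.assoc]
    change fst' ≫ u ≫ q ≫ ι = _
    rw [hq]
  refine ⟨⟨b₁ ⊞ b₂, d, φ, ?_, fun h => absurd h hm, fun T z y hzy => ?_, fun T y hy => ?_⟩⟩
  · rw [hd]
    simp only [φ, Preadditive.add_comp, Category.assoc, HomologicalComplex.iCycles_d, comp_zero, add_zero,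
      pullback.condition]
  · obtain ⟨T', π, hπ, w₁, hw₁⟩ :=
      surjective_up_to_refinements_of_epi (u ≫ q) (pullback.lift z y hzy ≫ q)
    refine ⟨T', π, hπ, w₁ ≫ i.map biprod.inl, ?_⟩
    have e1 : i.map (biprod.inl : b₁ ⟶ b₁ ⊞ b₂) ≫ fst' = 𝟙 _ := by
      simp [fst', ← i.map_comp]
    rw [hd, Category.assoc, reassoc_of% e1]
    have h2 := congrArg (· ≫ ι) hw₁
    simpa [hq] using h2
  · let yc := K.liftCycles y (m + 1) (by simp) hy
    obtain ⟨T₁, π₁, hπ₁, w₂, hw₂⟩ :=
      surjective_up_to_refinements_of_epi (v ≫ K.homologyπ m ≫ em.inv) (yc ≫ K.homologyπ m ≫ em.inv)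
    have h3 : (π₁ ≫ yc - w₂ ≫ v) ≫ K.homologyπ m = 0 := by
      rw [← cancel_mono em.inv, zero_comp, Preadditive.sub_comp, Preadditive.sub_comp]
      simp only [Category.assoc]
      rw [hw₂, sub_self]
    obtain ⟨T₂, π₂, hπ₂, x₁, hx₁⟩ :=
      (K.comp_homologyπ_eq_zero_iff_up_to_refinements (m - 1) m (by simp) _).1 h3
    haveI := hπ₁
    haveI := hπ₂
    have e1 : i.map (biprod.inr : b₂ ⟶ b₁ ⊞ b₂) ≫ fst' = 0 := by
      simp [fst', ← i.map_comp]
    have e2 : i.map (biprod.inr : b₂ ⟶ b₁ ⊞ b₂) ≫ snd' = 𝟙 _ := by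
      simp [snd', ← i.map_comp]
    refine ⟨T₂, π₂ ≫ π₁, inferInstance, π₂ ≫ w₂ ≫ i.map biprod.inr, ?_, x₁, ?_⟩
    · rw [hd]
      simp [reassoc_of% e1]
    · have h4 := congrArg (· ≫ K.iCycles m) hx₁
      simp [yc, Preadditive.comp_sub, Preadditive.sub_comp, HomologicalComplex.toCycles_i] at h4
      simp only [φ, Category.assoc, Preadditive.comp_add, reassoc_of% e1, reassoc_of% e2, zero_comp, comp_zero,
        zero_add]
      rw [← h4]
      abel

variable (hgen : Gen i) (hH : ∀ k, ∃ b : B, Nonempty (i.obj b ≅ K.homology k)) [K.IsStrictlyLE n]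

/-- The zero state. -/
noncomputable def zeroState (m : ℤ) (h : n < m) : State (i := i) K n m where
  Z := 0
  ζ := 0
  hζ := zero_comp
  hZ _ := isZero_zero B
  epi T y _ := ⟨T, 𝟙 T, inferInstance, 0, 0, (K.isZero_of_isStrictlyLE n m h).eq_of_tgt _ _⟩

/-- The next state. -/
noncomputable def nextState (m : ℤ) {s : State (i := i) K n (m + 1)} (S : Step K n m s) : State (i := i) K n m where
  Z := kernel S.d
  ζ := i.map (kernel.ι S.d) ≫ S.φ
  hζ := by rw [Category.assoc, S.comm, ← Category.assoc, ← i.map_comp, kernel.condition, i.map_zero, zero_comp]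
  hZ h := by
    rw [IsZero.iff_id_eq_zero, ← cancel_mono (kernel.ι S.d)]
    exact (S.zero h).eq_of_tgt _ _
  epi T y hy := by
    obtain ⟨T', π, hπ, w, hw, y', hy'⟩ := S.epi y hy
    have hw' : w ≫ i.map S.d = 0 := hw
    refine ⟨T', π, hπ, kernel.lift (i.map S.d) w hw' ≫ (PreservesKernel.iso i S.d).inv, y', ?_⟩
    rw [hy']
    congr 1
    rw [Category.assoc, ← Category.assoc (PreservesKernel.iso i S.d).inv]
    have e : (PreservesKernel.iso i S.d).inv ≫ i.map (kernel.ι S.d) = kernel.ι (i.map S.d) := by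
      rw [Iso.inv_comp_eq]; simp [PreservesKernel.iso_hom]
    rw [e, ← Category.assoc, kernel.lift_ι]

/-- All states. -/
noncomputable def state (m : ℤ) : State (i := i) K n m :=
  if h : n < m then zeroState K n m h
  else nextState K n m (nonempty_step K n hgen hH m (state (m + 1))).some
termination_by (n + 1 - m).toNat
decreasing_by omega

/-- All steps. -/
noncomputable def step (m : ℤ) : Step K n m (state K n hgen hH (m + 1)) :=
  (nonempty_step K n hgen hH m _).some

theorem state_eq (m : ℤ) (h : ¬ n < m) :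
    state K n hgen hH m = nextState K n m (step K n hgen hH m) := by
  rw [state, dif_neg h]; rfl

theorem exists_incl (m : ℤ) :
    ∃ j : (state K n hgen hH m).Z ⟶ (step K n hgen hH m).b, i.map j ≫ (step K n hgen hH m).φ = (state K n hgen hH m).ζ ∧
      j ≫ (step K n hgen hH m).d = 0 ∧ Mono j ∧
      ∀ ⦃T : A⦄ (w : T ⟶ i.obj (step K n hgen hH m).b), w ≫ i.map (step K n hgen hH m).d = 0 →
        ∃ z, z ≫ i.map j = w := by
  by_cases h : n < m
  · have hZ := (state K n hgen hH m).hZ h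
    refine ⟨0, (i.map_isZero hZ).eq_of_src _ _, zero_comp, ⟨fun a b _ => hZ.eq_of_tgt a b⟩, fun T w _ => ⟨0, ?_⟩⟩
    exact (i.map_isZero ((step K n hgen hH m).zero h)).eq_of_tgt _ _
  · rw [state_eq K n hgen hH m h]
    refine ⟨kernel.ι _, rfl, kernel.condition _, inferInstance, fun T w hw => ?_⟩
    refine ⟨kernel.lift (i.map _) w hw ≫ (PreservesKernel.iso i _).inv, ?_⟩
    have e : (PreservesKernel.iso i (step K n hgen hH m).d).inv ≫ i.map (kernel.ι (step K n hgen hH m).d) =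
        kernel.ι (i.map (step K n hgen hH m).d) := by
      rw [Iso.inv_comp_eq]; simp [PreservesKernel.iso_hom]
    rw [Category.assoc]
    erw [e]
    rw [kernel.lift_ι]

include hgen hH in
/-- A bounded above resolution. -/
theorem exists_resolution :
    ∃ (L : CochainComplex B ℤ) (_ : L.IsStrictlyLE n)
      (φ : (i.mapHomologicalComplex (ComplexShape.up ℤ)).obj L ⟶ K), _root_.QuasiIso φ := by
  choose j hj₁ hj₂ hj₃ hj₄ using exists_incl K n hgen hH
  let b : ℤ → B := fun m => (step K n hgen hH m).b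
  let dd : ∀ m, b m ⟶ b (m + 1) := fun m => (step K n hgen hH m).d ≫ j (m + 1)
  let L : CochainComplex B ℤ := CochainComplex.of b dd fun m => by
    simp only [dd, Category.assoc]
    rw [reassoc_of% (hj₂ (m + 1)), zero_comp, comp_zero]
  have hL : ∀ m, L.d m (m + 1) = dd m := fun m => by simp [L]
  haveI hLE : L.IsStrictlyLE n := (CochainComplex.isStrictlyLE_iff L n).2 fun m hm => (step K n hgen hH m).zero hm
  let φ : (i.mapHomologicalComplex (ComplexShape.up ℤ)).obj L ⟶ K :=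
    { f := fun m => (step K n hgen hH m).φ
      comm' := fun m k hmk => by
        obtain rfl : m + 1 = k := hmk
        change _ = i.map (L.d m (m + 1)) ≫ _
        rw [hL, (step K n hgen hH m).comm, i.map_comp, Category.assoc, hj₁] }
  refine ⟨L, hLE, φ, ⟨fun m => ?_⟩⟩
  rw [quasiIsoAt_iff_isIso_homologyMap]
  haveI : Epi (HomologicalComplex.homologyMap φ m) := by
    rw [HomologicalComplex.epi_homologyMap_iff_up_to_refinements φ (m - 1) m (m + 1) (by simp) (by simp)]
    intro T y hy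
    obtain ⟨T', π, hπ, z, y', e⟩ := (state K n hgen hH m).epi y hy
    refine ⟨T', π, hπ, z ≫ i.map (j m), ?_, y', ?_⟩
    · change (z ≫ i.map (j m)) ≫ i.map (L.d m (m + 1)) = 0
      rw [hL, Category.assoc, ← i.map_comp]
      simp only [dd]
      rw [reassoc_of% (hj₂ m), zero_comp, i.map_zero, comp_zero]
    · rw [e, ← hj₁ m, Category.assoc]
  haveI : Mono (HomologicalComplex.homologyMap φ m) := by
    obtain ⟨m, rfl⟩ : ∃ m', m = m' + 1 := ⟨m - 1, by omega⟩
    rw [HomologicalComplex.mono_homologyMap_iff_up_to_refinements φ m (m + 1) (m + 1 + 1) (by simp) (by simp)]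
    intro T x hx y hxy
    change x ≫ i.map (L.d (m + 1) (m + 1 + 1)) = 0 at hx
    rw [hL] at hx
    simp only [dd, i.map_comp] at hx
    haveI := hj₃ (m + 1 + 1)
    rw [← Category.assoc, ← zero_comp (f := i.map (j (m + 1 + 1))), cancel_mono] at hx
    obtain ⟨z, hz⟩ := hj₄ (m + 1) x hx
    obtain ⟨T', π, hπ, w, hw⟩ := (step K n hgen hH m).exact z y (by rw [← hj₁, ← Category.assoc, hz]; exact hxy)
    refine ⟨T', π, hπ, w, ?_⟩
    change π ≫ x = w ≫ i.map (L.d m (m + 1))
    rw [hL, ← hz]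
    simp only [dd, i.map_comp]
    rw [reassoc_of% hw]
  exact isIso_of_mono_of_epi _

end Groth.Agent.MinusRes9
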