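import Groth.Agent.Lib.DGen9.QCD
import Groth.Agent.Lib.QCoh8.Main
import Groth.Agent.Lib.InjMod.QCohInj
import Groth.Agent.Lib.KInj.Derived
import Mathlib.Algebra.Homology.Factorizations.CM5a

/-! The bounded below derived category of quasi-coherent modules of a locally Noetherian scheme. -/

set_option autoImplicit false
set_option linter.unusedSectionVars false
set_option linter.style.haveILetI false
set_option backward.isDefEq.respectTransparency false
set_option backward.isDefEq.respectTransparency.types false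
set_option maxHeartbeats 1600000

universe u

open CategoryTheory CategoryTheory.Limits AlgebraicGeometry Pretriangulated ZeroObject

namespace Groth.Agent.QCN9

open Groth.Agent.QCD

attribute [local instance] HasDerivedCategory.standard

variable (X : Scheme.{u})

instance isLeftAdjoint_qP_ι : (qP X).ι.IsLeftAdjoint := QCoh8.isLeftAdjoint_ι X

/-- The coherator. -/
noncomputable abbrev qco : X.Modules ⥤ QC X := (qP X).ι.rightAdjoint

/-- Its adjunction. -/
noncomputable abbrev qcoAdj : (qP X).ι ⊣ qco X := Adjunction.ofIsLeftAdjoint _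

instance : (qco X).Additive := (qcoAdj X).right_adjoint_additive

variable {X}

/-- Homotopies between maps of quasi-coherent complexes. -/
noncomputable def homotopyOfι {K J : CochainComplex (QC X) ℤ} {φ ψ : K ⟶ J}
    (H : Homotopy (((qP X).ι.mapHomologicalComplex (ComplexShape.up ℤ)).map φ)
      (((qP X).ι.mapHomologicalComplex (ComplexShape.up ℤ)).map ψ)) : Homotopy φ ψ where
  hom i k := (qP X).fullyFaithfulι.preimage (H.hom i k)
  zero i k h := (qP X).ι.map_injective (by
    rw [(qP X).fullyFaithfulι.map_preimage]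
    exact (H.zero i k h).trans ((qP X).ι.map_zero _ _).symm)
  comm i := (qP X).ι.map_injective (by
    refine (H.comm i).trans ?_
    simp [dNext, prevD]
    rfl)

/-- Between K-injective complexes. -/
theorem bijective_map_of_kInjective (J : CochainComplex (QC X) ℤ) [J.IsKInjective]
    [CochainComplex.IsKInjective (((qP X).ι.mapHomologicalComplex (ComplexShape.up ℤ)).obj J)]
    (M : DerivedCategory (QC X)) :
    Function.Bijective fun f : M ⟶ DerivedCategory.Q.obj J => (Φ X).map f := by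
  obtain ⟨K, ⟨eK⟩⟩ := Functor.EssSurj.mem_essImage (F := (DerivedCategory.Q : CochainComplex (QC X) ℤ ⥤ _)) M
  let fac := (qP X).ι.mapDerivedCategoryFactors
  let ιc := (qP X).ι.mapHomologicalComplex (ComplexShape.up ℤ)
  have key : ∀ φ : K ⟶ J, (Φ X).map (DerivedCategory.Q.map φ) =
      fac.hom.app K ≫ DerivedCategory.Q.map (ιc.map φ) ≫ fac.inv.app J := fun φ => by
    have hn := fac.hom.naturality φ
    dsimp at hn
    rw [← reassoc_of% hn, Iso.hom_inv_id_app]
    simp
  have hK : Function.Bijective fun g : DerivedCategory.Q.obj K ⟶ DerivedCategory.Q.obj J => (Φ X).map g := by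
    refine ⟨fun g g' h => ?_, fun b => ?_⟩
    · obtain ⟨φ, rfl⟩ := KInjLib.exists_map_eq g
      obtain ⟨φ', rfl⟩ := KInjLib.exists_map_eq g'
      dsimp only at h
      rw [key, key] at h
      obtain ⟨H⟩ := (KInjLib.map_eq_iff _ _).1 ((cancel_mono (fac.inv.app J)).1 ((cancel_epi (fac.hom.app K)).1 h))
      exact DerivedCategory.Q_map_eq_of_homotopy _ (homotopyOfι H)
    · obtain ⟨ψ, hψ⟩ := KInjLib.exists_map_eq (fac.inv.app K ≫ b ≫ fac.hom.app J)
      let φ : K ⟶ J :=
        { f := fun i => (qP X).fullyFaithfulι.preimage (ψ.f i)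
          comm' := fun i k _ => (qP X).ι.map_injective (by
            rw [Functor.map_comp, Functor.map_comp, (qP X).fullyFaithfulι.map_preimage,
              (qP X).fullyFaithfulι.map_preimage]
            exact ψ.comm i k) }
      have hφ : ιc.map φ = ψ := HomologicalComplex.hom_ext _ _ fun i => (qP X).fullyFaithfulι.map_preimage _
      refine ⟨DerivedCategory.Q.map φ, ?_⟩
      dsimp only
      rw [key, hφ, hψ]
      simp
  refine ⟨fun f g h => ?_, fun b => ?_⟩
  · refine (cancel_epi eK.hom).1 (hK.1 ?_)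
    dsimp only at h ⊢
    rw [Functor.map_comp, Functor.map_comp, h]
  · obtain ⟨g, hg⟩ := hK.2 ((Φ X).map eK.hom ≫ b)
    refine ⟨eK.inv ≫ g, ?_⟩
    dsimp only at hg ⊢
    rw [Functor.map_comp, hg, ← Category.assoc, ← Functor.map_comp, eK.inv_hom_id,
      CategoryTheory.Functor.map_id, Category.id_comp]

/-- A homotopy between adjuncts. -/
noncomputable def coAdjHomotopy {K : CochainComplex (QC X) ℤ} {I : CochainComplex X.Modules ℤ}
    {φ ψ : K ⟶ ((qco X).mapHomologicalComplex (ComplexShape.up ℤ)).obj I}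
    (H : Homotopy (((KInjLib.adjComplexes (qcoAdj X) (ComplexShape.up ℤ)).homEquiv K I).symm φ)
      (((KInjLib.adjComplexes (qcoAdj X) (ComplexShape.up ℤ)).homEquiv K I).symm ψ)) : Homotopy φ ψ := by
  let adj := KInjLib.adjComplexes (qcoAdj X) (ComplexShape.up ℤ)
  have h : ∀ χ, adj.unit.app K ≫ ((qco X).mapHomologicalComplex (ComplexShape.up ℤ)).map
      ((adj.homEquiv K I).symm χ) = χ := fun χ =>
    (adj.homEquiv_unit K I _).symm.trans (Equiv.apply_symm_apply _ _)
  exact (Homotopy.ofEq (h φ).symm).trans (((((qco X).mapHomotopy H).compLeft (adj.unit.app K))).trans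
    (Homotopy.ofEq (h ψ)))

variable [IsLocallyNoetherian X]

theorem isKInjective_ι (J : CochainComplex (QC X) ℤ) (d : ℤ) [J.IsStrictlyGE d] (hJ : ∀ n, Injective (J.X n)) :
    CochainComplex.IsKInjective (((qP X).ι.mapHomologicalComplex (ComplexShape.up ℤ)).obj J) := by
  haveI : ∀ n, Injective ((((qP X).ι.mapHomologicalComplex (ComplexShape.up ℤ)).obj J).X n) := fun n =>
    haveI := hJ n
    InjMod.injective_obj_of_injective_qcoh (J.X n)
  exact CochainComplex.isKInjective_of_injective _ d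

/-- Full faithfulness on bounded below objects. -/
theorem bijective_map_of_isGE (M N : DerivedCategory (QC X)) (b : ℤ) [N.IsGE b] :
    Function.Bijective fun f : M ⟶ N => (Φ X).map f := by
  haveI : IsGrothendieckAbelian.{u} (QC X) := QCoh8.isGrothendieckAbelian_qcoh X
  obtain ⟨K, hK, ⟨eK⟩⟩ := DerivedCategory.exists_iso_Q_obj_of_isGE N b
  obtain ⟨J, i, hi, hJ, hJb⟩ := CochainComplex.Plus.modelCategoryQuillen.exists_quasiIso_injective K b
  haveI := hJ
  haveI := hJb
  haveI : J.IsKInjective := CochainComplex.isKInjective_of_injective J b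
  haveI := isKInjective_ι J b hJ
  haveI := hi
  let e : N ≅ DerivedCategory.Q.obj J := eK ≪≫ asIso (DerivedCategory.Q.map i)
  have h := bijective_map_of_kInjective J M
  refine ⟨fun f g hfg => ?_, fun g => ?_⟩
  · refine (cancel_mono e.hom).1 (h.1 ?_)
    dsimp only at hfg ⊢
    rw [Functor.map_comp, Functor.map_comp, hfg]
  · obtain ⟨f, hf⟩ := h.2 (g ≫ (Φ X).map e.hom)
    refine ⟨f ≫ e.inv, ?_⟩
    dsimp only at hf ⊢
    rw [Functor.map_comp, hf, Category.assoc, ← Functor.map_comp, e.hom_inv_id]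
    simp

/-- Bounded below objects with quasi-coherent cohomology come from quasi-coherent modules. -/
theorem exists_Φ_iso_of_isGE (K : DCoh.D X) (a : ℤ) [K.IsGE a] (hK : DCoh.IsQCohD K) :
    ∃ M : DerivedCategory (QC X), M.IsGE a ∧ Nonempty ((Φ X).obj M ≅ K) := by
  obtain ⟨K₀, hK₀, ⟨e₀⟩⟩ := DerivedCategory.exists_iso_Q_obj_of_isGE K a
  obtain ⟨I, i, hi, hI, hIa⟩ := CochainComplex.Plus.modelCategoryQuillen.exists_quasiIso_injective K₀ a
  haveI := hI
  haveI := hIa
  haveI := hi
  haveI : I.IsKInjective := CochainComplex.isKInjective_of_injective I a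
  let adj := KInjLib.adjComplexes (qcoAdj X) (ComplexShape.up ℤ)
  let J : CochainComplex (QC X) ℤ := ((qco X).mapHomologicalComplex (ComplexShape.up ℤ)).obj I
  have hJi : ∀ n, Injective (J.X n) := fun n => Injective.injective_of_adjoint (qcoAdj X) (I.X n)
  haveI hJa : J.IsStrictlyGE a := (CochainComplex.isStrictlyGE_iff J a).2 fun n hn =>
    (qco X).map_isZero (CochainComplex.isZero_of_isStrictlyGE I a n hn)
  haveI : J.IsKInjective := KInjLib.isKInjective_of_adj (qco X) (qP X).ι (qcoAdj X) I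
  haveI := isKInjective_ι J a hJi
  let R : DerivedCategory (QC X) := DerivedCategory.Q.obj J
  let fac := (qP X).ι.mapDerivedCategoryFactors
  let c : (Φ X).obj R ⟶ DerivedCategory.Q.obj I := fac.hom.app J ≫ DerivedCategory.Q.map (adj.counit.app I)
  have hb : ∀ M : DerivedCategory (QC X), Function.Bijective fun f : (Φ X).obj M ⟶ (Φ X).obj R => f ≫ c := by
    intro M
    obtain ⟨L, ⟨eL⟩⟩ := Functor.EssSurj.mem_essImage (F := (DerivedCategory.Q : CochainComplex (QC X) ℤ ⥤ _)) M
    have key : ∀ φ : L ⟶ J, (Φ X).map (DerivedCategory.Q.map φ) ≫ c =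
        fac.hom.app L ≫ DerivedCategory.Q.map ((adj.homEquiv L I).symm φ) := fun φ => by
      have hn := fac.hom.naturality φ
      dsimp at hn
      rw [reassoc_of% hn, Adjunction.homEquiv_counit, Functor.map_comp]
    have hL : Function.Bijective fun g : DerivedCategory.Q.obj L ⟶ R => (Φ X).map g ≫ c := by
      refine ⟨fun g g' h => ?_, fun b => ?_⟩
      · obtain ⟨φ, rfl⟩ := KInjLib.exists_map_eq g
        obtain ⟨φ', rfl⟩ := KInjLib.exists_map_eq g'
        dsimp only at h
        rw [key, key] at h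
        obtain ⟨H⟩ := (KInjLib.map_eq_iff _ _).1 ((cancel_epi (fac.hom.app L)).1 h)
        exact DerivedCategory.Q_map_eq_of_homotopy _ (coAdjHomotopy H)
      · obtain ⟨ψ, hψ⟩ := KInjLib.exists_map_eq (fac.inv.app L ≫ b)
        refine ⟨DerivedCategory.Q.map (adj.homEquiv L I ψ), ?_⟩
        dsimp only
        rw [key, Equiv.symm_apply_apply, hψ]
        simp
    have hM : Function.Bijective fun g : M ⟶ R => (Φ X).map g ≫ c := by
      refine ⟨fun g g' h => (cancel_epi eL.hom).1 (hL.1 ?_), fun b => ?_⟩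
      · dsimp only at h ⊢
        rw [Functor.map_comp, Functor.map_comp, Category.assoc, Category.assoc, h]
      · obtain ⟨g, hg⟩ := hL.2 ((Φ X).map eL.hom ≫ b)
        refine ⟨eL.inv ≫ g, ?_⟩
        dsimp only at hg ⊢
        rw [Functor.map_comp, Category.assoc, hg, ← Category.assoc, ← Functor.map_comp, eL.inv_hom_id,
          CategoryTheory.Functor.map_id, Category.id_comp]
    exact (Function.Bijective.of_comp_iff _ (bijective_map_of_kInjective J M)).1 hM
  haveI hRge : R.IsGE a := (DerivedCategory.isGE_Q_obj_iff J a).2 inferInstance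
  suffices hc : IsIso c from
    ⟨R, hRge, ⟨asIso c ≪≫ (e₀ ≪≫ asIso (DerivedCategory.Q.map i)).symm⟩⟩
  obtain ⟨Z, v, w, hT⟩ := distinguished_cocone_triangle c
  let t := DerivedCategory.TStructure.t (C := X.Modules)
  have hz : ∀ (M : DerivedCategory (QC X)) (f : (Φ X).obj M ⟶ Z), f = 0 := by
    intro M f
    let G := shiftFunctor (DCoh.D X) (1 : ℤ)
    have h1 : f ≫ w = 0 := by
      let ε' : ((Φ X).obj (M⟦(-1 : ℤ)⟧))⟦(1 : ℤ)⟧ ≅ (Φ X).obj M :=
        (((Φ X).commShiftIso (1 : ℤ)).app (M⟦(-1 : ℤ)⟧)).symm ≪≫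
          (Φ X).mapIso ((shiftFunctorCompIsoId (DerivedCategory (QC X)) (-1 : ℤ) 1 (by omega)).app M)
      obtain ⟨g, hg⟩ := G.map_surjective (ε'.hom ≫ f ≫ w)
      have hgc : g ≫ c = 0 := G.map_injective (by
        rw [Functor.map_comp, hg, Category.assoc, Category.assoc, Functor.map_zero]
        erw [comp_distTriang_mor_zero₃₁ _ hT]
        rw [comp_zero, comp_zero])
      have hg0 : g = 0 := (hb _).1 (show g ≫ c = 0 ≫ c by rw [hgc, zero_comp])
      rw [hg0, Functor.map_zero] at hg
      exact (cancel_epi ε'.hom).1 (hg.symm.trans comp_zero.symm)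
    obtain ⟨g, hg⟩ := Triangle.coyoneda_exact₃ _ hT f h1
    obtain ⟨g', hg'⟩ := (hb M).2 g
    change f = g ≫ v at hg
    rw [hg, ← hg', Category.assoc]
    erw [comp_distTriang_mor_zero₁₂ _ hT]
    rw [comp_zero]
  have hZq : DCoh.IsQCohD Z := DPush.isQCohD_obj₃ _ hT (isQCohD_Φ R)
    (DQC.isQCohD_of_iso (e₀ ≪≫ asIso (DerivedCategory.Q.map i)) hK)
  haveI hΦR : ((Φ X).obj R).IsGE (a - 1) := by
    let ιJ : CochainComplex X.Modules ℤ := ((qP X).ι.mapHomologicalComplex (ComplexShape.up ℤ)).obj J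
    haveI : ιJ.IsStrictlyGE a := inferInstanceAs (CochainComplex.IsStrictlyGE
      ((((qP X).ι.mapHomologicalComplex (ComplexShape.up ℤ)).obj J : CochainComplex X.Modules ℤ)) a)
    haveI : (DerivedCategory.Q.obj ιJ).IsGE a := (DerivedCategory.isGE_Q_obj_iff _ a).2 inferInstance
    haveI : t.IsGE (((qP X).ι.mapHomologicalComplex (ComplexShape.up ℤ) ⋙ DerivedCategory.Q).obj J) a := ‹(DerivedCategory.Q.obj ιJ).IsGE a›
    haveI : ((Φ X).obj R).IsGE a := t.isGE_of_iso (fac.app J).symm a
    exact t.isGE_of_ge ((Φ X).obj R) (a - 1) a (by omega)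
  have hZb : ∀ q, q < a - 2 → IsZero (DCoh.HD Z q) := by
    intro q hq
    haveI : (DerivedCategory.Q.obj I).IsGE a := (DerivedCategory.isGE_Q_obj_iff I a).2 inferInstance
    haveI : t.IsGE ((Φ X).obj R) (a - 1) := hΦR
    haveI : t.IsGE (DerivedCategory.Q.obj I) (a - 1) := t.isGE_of_ge _ (a - 1) a (by omega)
    haveI : t.IsGE (((Φ X).obj R)⟦(1 : ℤ)⟧) (a - 2) := t.isGE_shift _ (a - 1) 1 (a - 2) (by omega)
    haveI : t.IsGE (DerivedCategory.Q.obj I) (a - 2) := t.isGE_of_ge _ (a - 2) (a - 1) (by omega)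
    haveI : t.IsGE Z (a - 2) := t.isGE₂ _ (rot_of_distTriang _ hT) (a - 2) (‹t.IsGE (DerivedCategory.Q.obj I) (a - 2)›) (‹t.IsGE (((Φ X).obj R)⟦(1 : ℤ)⟧) (a - 2)›)
    exact DerivedCategory.isZero_of_isGE Z (a - 2) q hq
  refine (Triangle.isZero₃_iff_isIso₁ _ hT).1 ?_
  refine DMV.isZero_of_hd fun q => ?_
  suffices H : ∀ (n : ℕ) (q : ℤ), q < a - 2 + n → IsZero (DCoh.HD Z q) from
    H ((q - (a - 2)).toNat + 1) q (by omega)
  intro n
  induction n with
  | zero => intro q hq; exact hZb q (by simpa using hq)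
  | succ n ih =>
    intro q hq
    by_cases hq' : q < a - 2 + n
    · exact ih q hq'
    haveI : Z.IsGE q := (DerivedCategory.isGE_iff Z q).2 fun r hr => ih r (by omega)
    let H₀ : QC X := ⟨DCoh.HD Z q, hZq q⟩
    let eS : (Φ X).obj ((DerivedCategory.singleFunctor (QC X) q).obj H₀) ≅
        (DerivedCategory.singleFunctor X.Modules q).obj (DCoh.HD Z q) :=
      ((qP X).ι.mapDerivedCategorySingleFunctor q).app H₀
    haveI : t.IsLE ((t.truncLT (q + 1)).obj Z) q := t.isLE_truncLT_obj Z (q + 1) q (by omega)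
    haveI : t.IsGE ((t.truncLT (q + 1)).obj Z) q := inferInstance
    haveI : DerivedCategory.IsLE ((t.truncLT (q + 1)).obj Z) q := ‹_›
    haveI : DerivedCategory.IsGE ((t.truncLT (q + 1)).obj Z) q := ‹_›
    haveI := DerTrunc.isIso_homology_truncLTι Z (q + 1) q (by omega)
    obtain ⟨f, hf⟩ := SiteRlim.exists_θ_eq_of_concentrated (m := q) (K := (t.truncLT (q + 1)).obj Z)
      (inv ((DerivedCategory.homologyFunctor X.Modules q).map ((t.truncLTι (q + 1)).app Z)))
    let g : (DerivedCategory.singleFunctor X.Modules q).obj (DCoh.HD Z q) ⟶ Z := f ≫ (t.truncLTι (q + 1)).app Z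
    have hg : g = 0 := (cancel_epi eS.hom).1 ((hz _ (eS.hom ≫ g)).trans comp_zero.symm)
    have hθ : SiteRlim.θ g = 𝟙 (DCoh.HD Z q) := by
      rw [SiteRlim.θ_comp, hf, IsIso.inv_hom_id]
    rw [hg] at hθ
    rw [IsZero.iff_id_eq_zero, ← hθ]
    simp [SiteRlim.θ]

end Groth.Agent.QCN9
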