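import Groth.Agent.Lib.DGen9.QCD
import Groth.Agent.Lib.QCoh8.Main
import Groth.Agent.Lib.KInj.RightDerived
import Groth.Agent.Lib.DPush9.Compute

/-! The derived direct image of quasi-coherent modules. -/

set_option autoImplicit false
set_option linter.unusedSectionVars false
set_option linter.style.haveILetI false
set_option backward.isDefEq.respectTransparency false
set_option backward.isDefEq.respectTransparency.types false
set_option maxHeartbeats 1600000

universe v₁ v₂ v₃ v₄ u₁ u₂ u₃ u₄ u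

open CategoryTheory CategoryTheory.Limits AlgebraicGeometry

namespace Groth.Agent.QCN9

open Groth.Agent.QCD

section Square

variable {A : Type u₁} [Category.{v₁} A] [Preadditive A] {B : Type u₂} [Category.{v₂} B] [Preadditive B]
  {B' : Type u₃} [Category.{v₃} B'] [Preadditive B'] {C : Type u₄} [Category.{v₄} C] [Preadditive C]
  (F : A ⥤ B) (G : B ⥤ C) (F' : A ⥤ B') (G' : B' ⥤ C) [F.Additive] [G.Additive] [F'.Additive] [G'.Additive]

local notation "Cx" => ComplexShape.up ℤ

/-- A commutative square on complexes. -/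
noncomputable def cxSquare (e : F ⋙ G ≅ F' ⋙ G') :
    F.mapHomologicalComplex Cx ⋙ G.mapHomologicalComplex Cx ≅
      F'.mapHomologicalComplex Cx ⋙ G'.mapHomologicalComplex Cx :=
  NatIso.ofComponents (fun K => HomologicalComplex.Hom.isoOfComponents (fun i => e.app (K.X i))
    (fun i j _ => (e.hom.naturality (K.d i j)).symm)) (fun f => by ext i; exact e.hom.naturality (f.f i))

/-- A commutative square on homotopy categories. -/
noncomputable def hcSquare (e : F ⋙ G ≅ F' ⋙ G') :
    F.mapHomotopyCategory Cx ⋙ G.mapHomotopyCategory Cx ≅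
      F'.mapHomotopyCategory Cx ⋙ G'.mapHomotopyCategory Cx :=
  CategoryTheory.Quotient.natIsoLift _
    ((Functor.associator _ _ _).symm ≪≫ Functor.isoWhiskerRight (F.mapHomotopyCategoryFactors Cx) _ ≪≫
      Functor.associator _ _ _ ≪≫ Functor.isoWhiskerLeft _ (G.mapHomotopyCategoryFactors Cx) ≪≫
      (Functor.associator _ _ _).symm ≪≫ Functor.isoWhiskerRight (cxSquare F G F' G' e) _ ≪≫
      Functor.associator _ _ _ ≪≫ Functor.isoWhiskerLeft _ (G'.mapHomotopyCategoryFactors Cx).symm ≪≫
      (Functor.associator _ _ _).symm ≪≫ Functor.isoWhiskerRight (F'.mapHomotopyCategoryFactors Cx).symm _ ≪≫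
      Functor.associator _ _ _)

end Square

attribute [local instance] HasDerivedCategory.standard

variable {X Y : Scheme.{u}} (f : X ⟶ Y) [QuasiCompact f] [QuasiSeparated f] [DCoh.HasRpush f]

/-- Injective quasi-coherent modules are acyclic. -/
def QInjAcyclic : Prop :=
  ∀ J : QC X, Injective J → RFPlus.IsAcyclicObj (Scheme.Modules.pushforward f) J.obj

variable {f}

theorem nonempty_totalRightDerived_comp (hac : QInjAcyclic f)
    (P : QC X ⥤ QC Y) [P.Additive] (eP : P ⋙ (qP Y).ι ≅ (qP X).ι ⋙ Scheme.Modules.pushforward f)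
    [(P.mapHomotopyCategory (ComplexShape.up ℤ) ⋙ DerivedCategory.Qh).HasRightDerivedFunctor
      (HomotopyCategory.quasiIso (QC X) (ComplexShape.up ℤ))] :
    Nonempty ((P.mapHomotopyCategory (ComplexShape.up ℤ) ⋙ DerivedCategory.Qh).totalRightDerived DerivedCategory.Qh
        (HomotopyCategory.quasiIso (QC X) (ComplexShape.up ℤ)) ⋙ Φ Y ≅ Φ X ⋙ DCoh.Rpush f) := by
  haveI : IsGrothendieckAbelian.{u} (QC X) := QCoh8.isGrothendieckAbelian_qcoh X
  have hE : KInjLib.EnoughKInj (QC X) := KInjLib.enoughKInj_of_grothendieck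
  haveI := KInjLib.isRightDerivabilityStructure hE
  let Wq := HomotopyCategory.quasiIso (QC X) (ComplexShape.up ℤ)
  let F₀ := P.mapHomotopyCategory (ComplexShape.up ℤ) ⋙ DerivedCategory.Qh
  let RP := F₀.totalRightDerived DerivedCategory.Qh Wq
  let η := F₀.totalRightDerivedUnit DerivedCategory.Qh Wq
  let F' := F₀ ⋙ Φ Y
  let α₁ : F' ⟶ DerivedCategory.Qh ⋙ RP ⋙ Φ Y := Functor.whiskerRight η (Φ Y) ≫ (Functor.associator _ _ _).hom
  let ιX := (qP X).ι.mapHomotopyCategory (ComplexShape.up ℤ)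
  let sq := hcSquare P (qP Y).ι (qP X).ι (Scheme.Modules.pushforward f) eP
  let e₁ : F' ≅ ιX ⋙ DCoh.pushKh f :=
    Functor.associator _ _ _ ≪≫ Functor.isoWhiskerLeft _ (qP Y).ι.mapDerivedCategoryFactorsh ≪≫
      (Functor.associator _ _ _).symm ≪≫ Functor.isoWhiskerRight sq _ ≪≫ Functor.associator _ _ _
  let α₂ : F' ⟶ DerivedCategory.Qh ⋙ Φ X ⋙ DCoh.Rpush f :=
    e₁.hom ≫ Functor.whiskerLeft ιX (DPush.unit f) ≫ (Functor.associator _ _ _).inv ≫
      Functor.whiskerRight (qP X).ι.mapDerivedCategoryFactorsh.inv (DCoh.Rpush f) ≫ (Functor.associator _ _ _).hom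
  haveI h₁ : (RP ⋙ Φ Y).IsRightDerivedFunctor α₁ Wq := by
    refine (KInjLib.derives F').isRightDerivedFunctor_of_isIso α₁ fun I => ?_
    haveI : IsIso (η.app ((KInjLib.kInjLocalizer (QC X)).functor.obj I)) :=
      (KInjLib.derives F₀).isIso_of_isRightDerivedFunctor η I
    exact inferInstanceAs (IsIso ((Φ Y).map (η.app ((KInjLib.kInjLocalizer (QC X)).functor.obj I)) ≫ 𝟙 _))
  haveI h₂ : (Φ X ⋙ DCoh.Rpush f).IsRightDerivedFunctor α₂ Wq := by
    refine (KInjLib.derives F').isRightDerivedFunctor_of_isIso α₂ fun I => ?_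
    obtain ⟨K, hK⟩ := HomotopyCategory.quotient_obj_surjective ((KInjLib.kInjLocalizer (QC X)).functor.obj I)
    obtain ⟨J, w, hJK, hw, -, hinj⟩ := KInjLib.exists_resolution K
    let q := HomotopyCategory.quotient (QC X) (ComplexShape.up ℤ)
    let w' : (KInjLib.kInjLocalizer (QC X)).functor.obj I ⟶ q.obj J := eqToHom hK.symm ≫ q.map w
    have hw' : IsIso (DerivedCategory.Qh.map w') := by
      haveI : IsIso (DerivedCategory.Qh.map (q.map w)) :=
        Localization.inverts DerivedCategory.Qh Wq _ ((HomotopyCategory.quotient_map_mem_quasiIso_iff w).2 hw)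
      rw [Functor.map_comp]
      infer_instance
    have hiso : IsIso w' := by
      haveI := hw'
      let J' : (KInjLib.kInjObj (QC X)).FullSubcategory := ⟨q.obj J, CochainComplex.IsKInjective.rightOrthogonal J⟩
      obtain ⟨g, hg⟩ := (KInjLib.bijective_Qh_map (q.obj J) I).2 (inv (DerivedCategory.Qh.map w'))
      exact ⟨g, (KInjLib.bijective_Qh_map _ I).1 (by rw [Functor.map_comp, hg]; simp),
        (KInjLib.bijective_Qh_map _ J').1 (by rw [Functor.map_comp, hg]; simp [J'])⟩
    refine (NatTrans.isIso_app_iff_of_iso α₂ (@asIso _ _ _ _ w' hiso)).2 ?_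
    let F := ((qP X).ι.mapHomologicalComplex (ComplexShape.up ℤ)).obj J
    haveI := DPush9.isIso_unit f F (fun n => (J.X n).property) fun n => hac (J.X n) (hinj n)
    haveI : IsIso ((DPush.unit f).app (ιX.obj (q.obj J))) :=
      (NatTrans.isIso_app_iff_of_iso (DPush.unit f)
        ((qP X).ι.mapHomotopyCategoryFactors (ComplexShape.up ℤ) |>.app J)).2 ‹_›
    simp only [α₂, NatTrans.comp_app, Functor.whiskerLeft_app, Functor.whiskerRight_app]
    infer_instance
  exact ⟨Functor.rightDerivedUnique (RP ⋙ Φ Y) (Φ X ⋙ DCoh.Rpush f) α₁ α₂ Wq⟩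

end Groth.Agent.QCN9
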