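import Groth.Agent.Lib.InjMod.QCohInj
import Groth.Agent.Lib.InjMod.StalkInj
import Groth.Agent.Lib.RegLoc.GlobalDim
import Groth.Agent.Lib.AlgSpRel14.FlatDim
import Groth.Agent.Lib.KFlat.StalkCx
import Groth.Agent.Lib.QCoh8.Main
import Groth.Agent.Lib.DGen9.QCD
import Groth.Agent.Lib.SiteRlim16.Acyclic
import Groth.Agent.Lib.KInj.Derived
import Groth.Prelude.Def_Models

/-! Vanishing of classes on regular schemes. -/

set_option autoImplicit false
set_option linter.unusedSectionVars false
set_option linter.style.haveILetI false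
set_option backward.isDefEq.respectTransparency false
set_option backward.isDefEq.respectTransparency.types false
set_option maxHeartbeats 800000

universe u

open CategoryTheory CategoryTheory.Limits AlgebraicGeometry Pretriangulated

namespace Groth.Agent.QCN9

attribute [local instance] HasDerivedCategory.standard

variable {X : Scheme.{u}}

/-- Stalkwise injective dimension `< n`. -/
def StalkID (G : X.Modules) (n : ℕ) : Prop :=
  ∀ x : X, HasInjectiveDimensionLT ((KFlat.Sch.stF x).obj G) n

theorem stalkID_of_regular [IsLocallyNoetherian X] (hreg : Models.IsRegularScheme X) (d : ℕ)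
    (hd : topologicalKrullDim X ≤ d) (G : X.Modules) : StalkID G (d + 1) := fun x => by
  haveI := hreg x
  have h1 : ((IsLocalRing.maximalIdeal (X.presheaf.stalk x)).spanFinrank : WithBot ℕ∞) ≤ (d : WithBot ℕ∞) := by
    rw [IsRegularLocalRing.spanFinrank_maximalIdeal]
    exact (AlgSpRel14.stalkDim_le_dim X x).trans hd
  have h2 : (IsLocalRing.maximalIdeal (X.presheaf.stalk x)).spanFinrank ≤ d := by exact_mod_cast h1
  refine HomDim.hasInjectiveDimensionLT_of_subsingleton_ext d _ fun I => ?_
  haveI := RegLoc.hasProjectiveDimensionLT_of_regular (R := X.presheaf.stalk x) rfl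
    (ModuleCat.of (X.presheaf.stalk x) (X.presheaf.stalk x ⧸ I))
  haveI : HasProjectiveDimensionLT (ModuleCat.of (X.presheaf.stalk x) (X.presheaf.stalk x ⧸ I)) (d + 1) :=
    hasProjectiveDimensionLT_of_ge _ ((IsLocalRing.maximalIdeal (X.presheaf.stalk x)).spanFinrank + 1) (d + 1) (by omega)
  exact HasProjectiveDimensionLT.subsingleton
    (ModuleCat.of (X.presheaf.stalk x) (X.presheaf.stalk x ⧸ I)) (d + 1) _ le_rfl _

theorem shortExact_map_stF {S : ShortComplex X.Modules} (hS : S.ShortExact) (x : X) :
    (S.map (KFlat.Sch.stF x)).ShortExact := by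
  haveI := hS.mono_f
  haveI := hS.epi_g
  haveI : Mono (S.map (KFlat.Sch.stF x)).f :=
    (ModuleCat.mono_iff_injective _).2 ((M1.mono_iff_stalk S.f).1 inferInstance x)
  haveI : Epi (S.map (KFlat.Sch.stF x)).g :=
    (ModuleCat.epi_iff_surjective _).2 ((M1.epi_iff_stalk S.g).1 inferInstance x)
  exact ShortComplex.ShortExact.mk' ((KFlat.Sch.exact_iff_stF S).1 hS.exact x) inferInstance inferInstance

variable [IsLocallyNoetherian X]

/-- Quasi-coherent modules of stalkwise bounded injective dimension. -/
theorem hom_eq_zero_of_stalkID : ∀ (k : ℕ) (G : X.Modules), Coh.IsQCoh G → StalkID G (k + 1) →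
    ∀ (K : DCoh.D X) (j : ℤ), K.IsGE (j + k + 1) → ∀ φ : K ⟶ (DerivedCategory.singleFunctor X.Modules j).obj G, φ = 0 := by
  intro k
  induction k with
  | zero =>
    intro G hG hs K j hK φ
    haveI hGi : Injective G := InjMod.injective_of_stalk G hG fun x => by
      have h := (injective_iff_hasInjectiveDimensionLT_one (X := (KFlat.Sch.stF x).obj G)).2 (hs x)
      exact Module.injective_module_of_injective_object (X.presheaf.stalk x) (G.presheaf.stalk x : Type u) (inj := h)
    haveI := hK
    obtain ⟨K₀, hK₀, ⟨e⟩⟩ := DerivedCategory.exists_iso_Q_obj_of_isGE K (j + ((0 : ℕ) : ℤ) + 1)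
    haveI := hK₀
    let S : CochainComplex X.Modules ℤ := (HomologicalComplex.single X.Modules (ComplexShape.up ℤ) j).obj G
    haveI : S.IsStrictlyGE j := (CochainComplex.isStrictlyGE_iff S j).2 fun q hq =>
      HomologicalComplex.isZero_single_obj_X _ j G q (by omega)
    haveI : ∀ q, Injective (S.X q) := fun q => by
      by_cases hq : q = j
      · subst hq
        exact Injective.of_iso (HomologicalComplex.singleObjXSelf (ComplexShape.up ℤ) q G).symm inferInstance
      · exact (HomologicalComplex.isZero_single_obj_X _ j G q hq).injective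
    haveI : S.IsKInjective := CochainComplex.isKInjective_of_injective S j
    let σ := (DerivedCategory.singleFunctorIsoCompQ X.Modules j).app G
    obtain ⟨f, hf⟩ := KInjLib.exists_map_eq (I := S) (e.inv ≫ φ ≫ σ.hom)
    have hf0 : f = 0 := by
      refine HomologicalComplex.hom_ext _ _ fun q => ?_
      by_cases hq : q = j
      · exact (K₀.isZero_of_isStrictlyGE (j + ((0 : ℕ) : ℤ) + 1) q (by omega)).eq_of_src _ _
      · exact (HomologicalComplex.isZero_single_obj_X _ j G q hq).eq_of_tgt _ _
    rw [hf0, Functor.map_zero] at hf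
    rw [← cancel_epi e.inv, ← cancel_mono σ.hom, Category.assoc, ← hf]
    simp
  | succ k ih =>
    intro G hG hs K j hK φ
    haveI : IsGrothendieckAbelian.{u} (QCD.QC X) := QCoh8.isGrothendieckAbelian_qcoh X
    let G' : QCD.QC X := ⟨G, hG⟩
    let J := Injective.under G'
    haveI hJi : Injective J := Injective.injective_under G'
    haveI hJ : Injective J.obj := InjMod.injective_obj_of_injective_qcoh J
    let ι : G ⟶ J.obj := (Injective.ι G').hom
    haveI : Mono ι := inferInstanceAs (Mono ((QCD.qP X).ι.map (Injective.ι G')))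
    let S : ShortComplex X.Modules := ShortComplex.mk ι (cokernel.π ι) (cokernel.condition ι)
    have hS : S.ShortExact := ShortComplex.ShortExact.mk' (ShortComplex.exact_cokernel ι) inferInstance inferInstance
    have hC : Coh.IsQCoh S.X₃ := M1.isQCoh_cokernel hG J.property ι
    have hJs : ∀ m, StalkID J.obj (m + 1) := fun m x => by
      haveI : Injective ((KFlat.Sch.stF x).obj J.obj) :=
        Module.injective_object_of_injective_module _ _ (inj := InjMod.injective_stalk J.obj x)
      exact hasInjectiveDimensionLT_of_ge _ 1 (m + 1) (by omega)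
    have hCs : StalkID S.X₃ (k + 1) := fun x => by
      have hS' := shortExact_map_stF hS x
      haveI : Injective (S.map (KFlat.Sch.stF x)).X₂ :=
        Module.injective_object_of_injective_module _ _ (inj := InjMod.injective_stalk J.obj x)
      exact (hS'.hasInjectiveDimensionLT_X₃_iff k inferInstance).2 (hs x)
    have hT := hS.singleTriangle_distinguished
    let T : Triangle (DCoh.D X) := hS.singleTriangle
    let sgl := DerivedCategory.singleFunctors X.Modules
    let e₁ : (DerivedCategory.singleFunctor X.Modules j).obj G ≅ T.obj₁⟦-j⟧ :=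
      ((sgl.shiftIso (-j) j 0 (by omega)).app G).symm
    let e₂ : T.obj₂⟦-j⟧ ≅ (DerivedCategory.singleFunctor X.Modules j).obj J.obj :=
      (sgl.shiftIso (-j) j 0 (by omega)).app J.obj
    let e₃ : (T.obj₃⟦-j⟧)⟦(-1 : ℤ)⟧ ≅ (DerivedCategory.singleFunctor X.Modules (j + 1)).obj S.X₃ :=
      ((shiftFunctorAdd' (DCoh.D X) (-j) (-1) (-(j + 1)) (by omega)).app T.obj₃).symm ≪≫
        (sgl.shiftIso (-(j + 1)) (j + 1) 0 (by omega)).app S.X₃
    let T' := (Triangle.shiftFunctor (DCoh.D X) (-j)).obj T
    have hT' : T' ∈ distTriang _ := T.shift_distinguished hT (-j)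
    haveI : K.IsGE (j + k + 1) :=
      haveI : DerivedCategory.TStructure.t.IsGE K (j + ((k + 1 : ℕ) : ℤ) + 1) := hK
      DerivedCategory.TStructure.t.isGE_of_ge K (j + k + 1) (j + ((k + 1 : ℕ) : ℤ) + 1) (by omega)
    have h2 : (φ ≫ e₁.hom) ≫ T'.mor₁ = 0 := (cancel_mono e₂.hom).1 (by
      rw [zero_comp]
      exact ih J.obj J.property (hJs k) K j inferInstance _)
    obtain ⟨g, hg⟩ := Triangle.coyoneda_exact₂ T'.invRotate (inv_rot_of_distTriang _ hT') (φ ≫ e₁.hom) h2
    have hg0 : g = 0 := by
      refine (cancel_mono e₃.hom).1 ((ih S.X₃ hC hCs K (j + 1) ?_ (g ≫ e₃.hom)).trans zero_comp.symm)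
      rw [show j + 1 + (k : ℤ) + 1 = j + ((k + 1 : ℕ) : ℤ) + 1 by omega]
      exact hK
    rw [hg0, zero_comp] at hg
    exact (cancel_mono e₁.hom).1 (hg.trans zero_comp.symm)

/-- Classes between separated bounded objects vanish. -/
theorem hom_eq_zero_of_gap (hreg : Models.IsRegularScheme X) (d : ℕ) (hd : topologicalKrullDim X ≤ d)
    (K : DCoh.D X) (a : ℤ) [K.IsGE (a + d)] :
    ∀ (m : ℕ) (L : DCoh.D X), DCoh.IsQCohD L → L.IsGE (a - m) → L.IsLE (a - 1) → ∀ φ : K ⟶ L, φ = 0 := by
  intro m
  induction m with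
  | zero =>
    intro L _ hGE hLE φ
    haveI := hGE
    haveI := hLE
    refine IsZero.eq_of_tgt (DMV.isZero_of_hd fun i => ?_) _ _
    rcases lt_or_ge i a with h | h
    · exact DerivedCategory.isZero_of_isGE L (a - ((0 : ℕ) : ℤ)) i (by omega)
    · exact DerivedCategory.isZero_of_isLE L (a - 1) i (by omega)
  | succ m ih =>
    intro L hq hGE hLE φ
    let t := DerivedCategory.TStructure.t (C := X.Modules)
    let q : ℤ := a - ((m + 1 : ℕ) : ℤ)
    haveI := hGE
    haveI := hLE
    haveI hGq : t.IsGE L q := hGE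
    haveI : DerivedCategory.IsLE ((t.truncLT (q + 1)).obj L) q := t.isLE_truncLT_obj L (q + 1) q (by omega)
    haveI : DerivedCategory.IsGE ((t.truncLT (q + 1)).obj L) q := (inferInstance : t.IsGE ((t.truncLT (q + 1)).obj L) q)
    haveI := DerTrunc.isIso_homology_truncLTι L (q + 1) q (by omega)
    let H := DCoh.HD L q
    obtain ⟨M, ⟨e⟩⟩ := DerivedCategory.exists_iso_singleFunctor_obj_of_isGE_of_isLE ((t.truncLT (q + 1)).obj L) q
    have hM : Coh.IsQCoh M := M1.isQCoh_of_isIso
      ((asIso ((DerivedCategory.homologyFunctor X.Modules q).map ((t.truncLTι (q + 1)).app L))).symm ≪≫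
        (DerivedCategory.homologyFunctor X.Modules q).mapIso e ≪≫
        (DerivedCategory.singleFunctorCompHomologyFunctorIso X.Modules q).app M) (hq q)
    have hT := t.triangleLTGE_distinguished (q + 1) L
    let L' := (t.truncGE (q + 1)).obj L
    haveI : L'.IsGE (a - (m : ℤ)) := by
      rw [show a - (m : ℤ) = q + 1 by omega]
      exact (inferInstance : t.IsGE ((t.truncGE (q + 1)).obj L) (q + 1))
    haveI : L'.IsLE (a - 1) := (inferInstance : t.IsLE ((t.truncGE (q + 1)).obj L) (a - 1))
    have hq' : DCoh.IsQCohD L' := by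
      refine DPush.isQCohD_obj₃ _ hT (DQC.isQCohD_of_iso e.symm ?_) hq
      intro i
      by_cases hi : i = q
      · subst hi
        exact M1.isQCoh_of_isIso ((DerivedCategory.singleFunctorCompHomologyFunctorIso X.Modules q).app M).symm hM
      · refine DPush.isQCoh_of_isZero ?_
        rcases lt_or_gt_of_ne hi with hlt | hlt
        · exact DerivedCategory.isZero_of_isGE _ q i hlt
        · exact DerivedCategory.isZero_of_isLE _ q i hlt
    have h1 : φ ≫ (t.truncGEπ (q + 1)).app L = 0 := ih L' hq' inferInstance inferInstance _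
    obtain ⟨g, hg⟩ := Triangle.coyoneda_exact₂ _ hT φ h1
    have hg0 : g = 0 := by
      refine (cancel_mono e.hom).1 ((hom_eq_zero_of_stalkID d M hM (stalkID_of_regular hreg d hd M) K q ?_ _).trans
        zero_comp.symm)
      haveI : t.IsGE K (a + d) := ‹K.IsGE (a + d)›
      exact t.isGE_of_ge K (q + d + 1) (a + d) (by omega)
    rw [hg, hg0]
    exact zero_comp

end Groth.Agent.QCN9
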